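import Cfsg.Agent.Lib.J1Unique.Iso

/-!
# The involution is 2-central
-/

set_option autoImplicit false
set_option linter.style.haveILetI false

namespace Cfsg.Lib.J1Unique

open Subgroup Cfsg Cfsg.Lib.J1Order

theorem isTwoCentral {G : Type*} [Group G] [Finite G] {t : G} (ht : orderOf t = 2)
    (e : Subgroup.centralizer ({t} : Set G) ≃* Model.M) (h16 : ¬ 16 ∣ Nat.card G) :
    IsTwoCentralInvolution t := by
  haveI : Fact (Nat.Prime 2) := ⟨Nat.prime_two⟩
  have het : emb e Model.tM = t := by
    have h : e ⟨t, mem_centralizer_singleton_iff.2 rfl⟩ = Model.tM := by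
      rcases Model.center_cases (e ⟨t, mem_centralizer_singleton_iff.2 rfl⟩) (fun n => by
        obtain ⟨x, rfl⟩ := e.surjective n
        rw [← map_mul, ← map_mul]
        congr 1
        exact Subtype.ext (mem_centralizer_singleton_iff.1 x.2).symm) with h | h
      · have h1 : t = 1 := congrArg Subtype.val (e.map_eq_one_iff.1 h)
        rw [h1, orderOf_one] at ht
        norm_num at ht
      · exact h
    show ((e.symm Model.tM : Subgroup.centralizer ({t} : Set G)) : G) = t
    rw [← h, e.symm_apply_apply]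
  have h8 : Nat.card (EMsub.map (emb e)) = 8 := by
    rw [← Nat.card_congr (EMsub.equivMapOfInjective _ (emb_inj e)).toEquiv, card_EMsub]
  obtain ⟨m, hm⟩ : 8 ∣ Nat.card G := h8 ▸ card_subgroup_dvd_card _
  have hm2 : ¬ 2 ∣ m := fun h => h16 (by rw [hm]; exact Nat.mul_dvd_mul (dvd_refl 8) h)
  have hcard : Nat.card (EMsub.map (emb e)) = 2 ^ (Nat.card G).factorization 2 := by
    rw [h8, hm, show 8 * m = 2 ^ 3 * m by norm_num, factorization_eq Nat.prime_two hm2]
    norm_num
  refine ⟨ht, Sylow.ofCard _ hcard, ⟨EM 4, ⟨4, rfl⟩, by rw [EM_vals.1, het]⟩, ?_⟩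
  intro x hx
  obtain ⟨m, -, rfl⟩ := hx
  exact emb_comm e m

end Cfsg.Lib.J1Unique
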