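import Cfsg.Agent.Lib.J1Unique.Relation

/-!
# Uniqueness of the simple group with this involution centralizer
-/

set_option autoImplicit false
set_option linter.style.haveILetI false
set_option linter.unusedSectionVars false

namespace Cfsg.Lib.J1Unique

open Subgroup Cfsg Cfsg.Lib.J1Order

universe u v

variable {G : Type u} [Group G] [Finite G] [IsSimpleGroup G] {t : G}
  (e : Subgroup.centralizer ({t} : Set G) ≃* Model.M) (ht : IsTwoCentralInvolution t)

include ht

theorem exists_conj_in {s : G} (hs : Tuple (emb e) s) {L : Subgroup G} (hC : (emb e).range ≤ L)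
    (hsL : s ∈ L) {x : G} (hx : x ∈ L) (hx2 : orderOf x = 2) :
    ∃ k ∈ L, k * t * k⁻¹ = x := by
  haveI : Fact (Nat.Prime 2) := ⟨Nat.prime_two⟩
  have hEL : EMsub.map (emb e) ≤ L := le_trans (map_le_range _ _) hC
  have hLdvd := card_subgroup_dvd_card L
  have h120 : 120 ∣ Nat.card L := by
    have h := card_dvd_of_le hC
    rwa [← Nat.card_congr (MonoidHom.ofInjective (emb_inj e)).toEquiv, Nat.card_eq_fintype_card,
      Model.card_M.1] at h
  obtain ⟨m, hm⟩ := h120
  have hmodd : ¬ 2 ∣ 15 * m := by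
    rw [hm, order_eq ht e, show (175560 : ℕ) = 120 * 1463 by norm_num] at hLdvd
    have hm' : m ∣ 1463 := Nat.dvd_of_mul_dvd_mul_left (by norm_num) hLdvd
    intro h
    rcases (Nat.prime_two.dvd_mul).1 h with h | h
    · norm_num at h
    · have := h.trans hm'; norm_num at this
  have hcard : Nat.card ((EMsub.map (emb e)).subgroupOf L) = 2 ^ (Nat.card L).factorization 2 := by
    rw [Nat.card_congr (subgroupOfEquivOfLe hEL).toEquiv,
      ← Nat.card_congr (EMsub.equivMapOfInjective _ (emb_inj e)).toEquiv, card_EMsub, hm,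
      show 120 * m = 2 ^ 3 * (15 * m) by ring, factorization_eq Nat.prime_two hmodd]
    norm_num
  let P : Sylow 2 L := Sylow.ofCard _ hcard
  obtain ⟨Q, hQ⟩ := (IsPGroup.of_card (n := 1) (by
    rw [Nat.card_zpowers, Subgroup.orderOf_mk, hx2, pow_one]) :
      IsPGroup 2 (zpowers (⟨x, hx⟩ : L))).exists_le_sylow
  obtain ⟨k, hk⟩ := MulAction.exists_smul_eq L Q P
  have hmem : k * ⟨x, hx⟩ * k⁻¹ ∈ (P : Subgroup L) := by
    rw [← hk]
    show _ ∈ ((k • Q : Sylow 2 L) : Subgroup L)
    exact Subgroup.smul_mem_pointwise_smul _ (MulAut.conj k) _ (hQ (mem_zpowers _))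
  obtain ⟨_, ⟨n, rfl⟩, hn⟩ := (mem_subgroupOf.1 hmem :)
  have hn0 : n ≠ 0 := by
    rintro rfl
    rw [EM_vals.2.2.2.2.2, map_one] at hn
    push_cast at hn
    rw [conj_eq_one_iff.1 hn.symm, orderOf_one] at hx2
    norm_num at hx2
  obtain ⟨i, hi⟩ := (M0_orbit n).resolve_left hn0
  have h := conj_iterate (a := fun n => emb e (EM n)) (f := M0) hs.hM i 4
  rw [hi, EM_vals.1] at h
  simp only [emb_tM e ht] at h
  push_cast at hn
  refine ⟨(k : G)⁻¹ * s ^ (i : ℕ), mul_mem (inv_mem k.2) (pow_mem hsL _), ?_⟩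
  calc (k : G)⁻¹ * s ^ (i : ℕ) * t * ((k : G)⁻¹ * s ^ (i : ℕ))⁻¹
      = (k : G)⁻¹ * (s ^ (i : ℕ) * t * (s ^ (i : ℕ))⁻¹) * k := by group
    _ = x := by rw [h, hn]; group

theorem span_eq_top {s : G} (hs : Tuple (emb e) s) : span (emb e) s = ⊤ := by
  classical
  by_contra hne
  set L := span (emb e) s
  have hC : (emb e).range ≤ L := range_le_span
  have hsL : s ∈ L := s_mem_span
  have hs1 : s ≠ 1 := by
    rintro rfl
    have h := hs.hM 4
    rw [one_mul, inv_one, mul_one] at h
    exact absurd (EM_inj _ _ (emb_inj e h)) (by decide)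
  haveI : Fact (Nat.Prime 7) := ⟨by norm_num⟩
  have h7 : 7 ∣ Nat.card L := by
    have h := orderOf_dvd_natCard (⟨s, hsL⟩ : L)
    rwa [Subgroup.orderOf_mk, orderOf_eq_prime hs.s7 hs1] at h
  have h120 : 120 ∣ Nat.card L := by
    have h := card_dvd_of_le hC
    rwa [← Nat.card_congr (MonoidHom.ofInjective (emb_inj e)).toEquiv, Nat.card_eq_fintype_card,
      Model.card_M.1] at h
  obtain ⟨c, hc⟩ := Nat.Coprime.mul_dvd_of_dvd_of_dvd (by norm_num : Nat.Coprime 7 120) h7 h120
  have hidx := L.card_mul_index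
  rw [hc, order_eq ht e] at hidx
  have hj : L.index ∣ 209 := ⟨c, by
    have : 840 * (c * L.index) = 840 * 209 := by linarith
    have := Nat.eq_of_mul_eq_mul_left (by norm_num) this
    rw [mul_comm L.index]; exact this.symm⟩
  have hj1 : L.index ≠ 1 := fun h => hne (index_eq_one.1 h)
  have hcases : L.index = 11 ∨ L.index = 19 ∨ L.index = 209 := by
    have : L.index ∈ Nat.divisors 209 := Nat.mem_divisors.2 ⟨hj, by norm_num⟩
    rw [show Nat.divisors 209 = {1, 11, 19, 209} by decide +kernel] at this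
    simp only [Finset.mem_insert, Finset.mem_singleton] at this
    tauto
  have hfix : ∀ g : G, g⁻¹ * t * g ∈ L → g ∈ L := by
    intro g hg
    have ho : orderOf (g⁻¹ * t * g) = 2 := by
      rw [show g⁻¹ * t * g = g⁻¹ * t * g⁻¹⁻¹ by rw [inv_inv], Cfsg.Lib.Invol.orderOf_conj_eq, ht.1]
    obtain ⟨k, hk, hkt⟩ := exists_conj_in e ht hs hC hsL hg ho
    obtain ⟨m, hm⟩ := exists_emb e (x := g * k) (by
      calc g * k * t = g * (k * t * k⁻¹) * k := by group
        _ = t * (g * k) := by rw [hkt]; group)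
    have hgk : g * k ∈ L := hC ⟨m, hm⟩
    have := mul_mem hgk (inv_mem hk)
    rwa [mul_inv_cancel_right] at this
  haveI : Fintype (G ⧸ L) := Fintype.ofFinite _
  have hker : (MulAction.toPermHom G (G ⧸ L)).ker = ⊥ := by
    refine (MonoidHom.normal_ker _).eq_bot_or_eq_top.resolve_right fun h => hne ?_
    rw [eq_top_iff]
    intro g _
    have hg : g ∈ L.normalCore := by
      rw [Subgroup.normalCore_eq_ker, h]; exact mem_top g
    exact L.normalCore_le hg
  rcases hcases with h11 | h19 | h209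
  · have hd := Subgroup.card_dvd_of_injective _ ((MonoidHom.ker_eq_bot_iff _).1 hker)
    rw [order_eq ht e, Nat.card_perm, show Nat.card (G ⧸ L) = L.index from rfl, h11] at hd
    norm_num [Nat.factorial] at hd
  · set σ := MulAction.toPermHom G (G ⧸ L) t
    have hσ : σ ^ 2 = 1 := by
      rw [← map_pow, ← ht.1, pow_orderOf_eq_one, map_one]
    have hfp : Fintype.card (Function.fixedPoints σ) = 1 := by
      rw [Fintype.card_eq_one_iff]
      refine ⟨⟨((1 : G) : G ⧸ L), ?_⟩, ?_⟩
      · show t • ((1 : G) : G ⧸ L) = ((1 : G) : G ⧸ L)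
        rw [MulAction.Quotient.smul_mk, QuotientGroup.eq]
        simp only [smul_eq_mul, mul_one]
        exact inv_mem (hC ⟨Model.tM, emb_tM e ht⟩)
      · rintro ⟨q, hq⟩
        obtain ⟨g, rfl⟩ := QuotientGroup.mk_surjective q
        have hq' : t • (g : G ⧸ L) = (g : G ⧸ L) := hq
        rw [MulAction.Quotient.smul_mk, QuotientGroup.eq, smul_eq_mul] at hq'
        have htg : g⁻¹ * t * g ∈ L := by
          have := inv_mem hq'
          rwa [mul_inv_rev, inv_inv, ← mul_assoc] at this
        refine Subtype.ext ?_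
        show (g : G ⧸ L) = ((1 : G) : G ⧸ L)
        rw [QuotientGroup.eq]
        simpa using hfix g htg
    have hcard : Fintype.card (G ⧸ L) = 19 := by
      rw [← Nat.card_eq_fintype_card]; exact h19
    have hsign : Equiv.Perm.sign σ = -1 := by
      rw [Equiv.Perm.sign_of_pow_two_eq_one hσ, hcard, hfp]
      decide
    have h1 : (Equiv.Perm.sign.comp (MulAction.toPermHom G (G ⧸ L))) t = 1 :=
      MonoidHom.mem_ker.1 (Abelianization.commutator_subset_ker _ (Local.perfect ht e ▸ mem_top t))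
    rw [MonoidHom.comp_apply, hsign] at h1
    exact absurd h1 (by decide)
  · set C := (emb e).range
    have hq : Nat.card (L ⧸ C.subgroupOf L) = 7 := by
      have h := (C.subgroupOf L).card_mul_index
      rw [Nat.card_congr (subgroupOfEquivOfLe hC).toEquiv,
        ← Nat.card_congr (MonoidHom.ofInjective (emb_inj e)).toEquiv, Nat.card_eq_fintype_card,
        Model.card_M.1, hc] at h
      show (C.subgroupOf L).index = 7
      rw [h209] at hidx
      have hc1 : c = 1 := by linarith
      rw [hc1] at h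
      linarith
    set S := Finset.univ.filter fun m : Model.M => m ≠ 1 ∧ m * m = 1
    have hex : ∀ m : S, ∃ k : L, (k : G) * t * (k : G)⁻¹ = emb e m.1 := by
      rintro ⟨m, hm⟩
      obtain ⟨h1, h2⟩ := (Finset.mem_filter.1 hm).2
      obtain ⟨k, hk, hk'⟩ := exists_conj_in e ht hs hC hsL (hC ⟨m, rfl⟩) (orderOf_eq_prime
        (by rw [pow_two, ← map_mul, h2, map_one]) fun h => h1 ((map_eq_one_iff _ (emb_inj e)).1 h))
      exact ⟨⟨k, hk⟩, hk'⟩
    choose k hk using hex
    have hinj : Function.Injective fun m : S => (QuotientGroup.mk (k m) : L ⧸ C.subgroupOf L) := by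
      intro a b hab
      obtain ⟨m, hm⟩ := (mem_subgroupOf.1 (QuotientGroup.eq.1 hab) :)
      push_cast at hm
      refine Subtype.ext (emb_inj e ?_)
      rw [← hk a, ← hk b, show (k b : G) = k a * emb e m by rw [hm]; group]
      calc (k a : G) * t * (k a : G)⁻¹
          = k a * (emb e m * t * (emb e m)⁻¹) * (k a : G)⁻¹ := by
            rw [emb_comm, mul_inv_cancel_right]
        _ = _ := by group
    have h31 := Nat.card_le_card_of_injective _ hinj
    rw [hq, Nat.card_eq_finsetCard, invol_card] at h31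
    omega



include e in
/-- Janko's uniqueness theorem. -/
theorem iso {H : Type v} [Group H] [Finite H] [IsSimpleGroup H] {t' : H}
    (ht' : IsTwoCentralInvolution t')

    (f : Subgroup.centralizer ({t'} : Set H) ≃* Model.M) : Nonempty (G ≃* H) := by
  obtain ⟨eG, a, hA, hA'⟩ := exists_good e ht
  obtain ⟨eH, b, hB, hB'⟩ := exists_good f ht'
  set ψ : Model.M →* G × H := (emb eG).prod (emb eH)
  have hT : Tuple ψ (a, b) := ⟨Prod.ext hA.s7 hB.s7, Prod.ext hA.hx hB.hx,
    fun n => Prod.ext (hA.hM n) (hB.hM n)⟩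
  have hc : Comm ψ (a, b) 1 zGood := by
    unfold Comm at hA' hB' ⊢
    exact Prod.ext hA'.eq hB'.eq
  have hD := good_bound hT hc
  set D := span ψ (a, b)
  have hgb : ∀ g, (gb ψ (a, b) g).1 = gb (emb eG) a g ∧ (gb ψ (a, b) g).2 = gb (emb eH) b g := by
    intro g
    simp only [gb, signed]
    split_ifs <;> simp [ψ]
  have hG : D.map (MonoidHom.fst G H) = ⊤ := by
    rw [← span_eq_top eG ht hA]
    simp only [D, span, MonoidHom.map_closure, ← Set.image_comp]
    congr 1
    exact Set.image_congr fun g _ => (hgb g).1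
  have hH : D.map (MonoidHom.snd G H) = ⊤ := by
    rw [← span_eq_top eH ht' hB]
    simp only [D, span, MonoidHom.map_closure, ← Set.image_comp]
    congr 1
    exact Set.image_congr fun g _ => (hgb g).2
  have hs1 : Function.Surjective ((MonoidHom.fst G H).comp D.subtype) := fun g => by
    obtain ⟨d, hd, rfl⟩ := (hG ▸ mem_top g : g ∈ D.map (MonoidHom.fst G H))
    exact ⟨⟨d, hd⟩, rfl⟩
  have hs2 : Function.Surjective ((MonoidHom.snd G H).comp D.subtype) := fun g => by
    obtain ⟨d, hd, rfl⟩ := (hH ▸ mem_top g : g ∈ D.map (MonoidHom.snd G H))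
    exact ⟨⟨d, hd⟩, rfl⟩
  have hcG := order_eq ht e
  have hcH := order_eq ht' f
  have b1 := (Nat.bijective_iff_surjective_and_card _).2 ⟨hs1,
    le_antisymm (by rw [hcG]; exact hD) (Nat.card_le_card_of_surjective _ hs1)⟩
  have b2 := (Nat.bijective_iff_surjective_and_card _).2 ⟨hs2,
    le_antisymm (by rw [hcH]; exact hD) (Nat.card_le_card_of_surjective _ hs2)⟩
  exact ⟨(MulEquiv.ofBijective _ b1).symm.trans (MulEquiv.ofBijective _ b2)⟩

end Cfsg.Lib.J1Unique
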