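import Cfsg.Agent.Lib.J1Unique.Checker

/-! Generated data of the amalgam certificates. -/

set_option autoImplicit false
set_option maxRecDepth 100000

namespace Cfsg.Lib.J1Unique

open Cfsg.Lib.CosetEnum
/-- Relations of the centralizer. -/
def relsC : List (List Nat) := [
  [2, 2],
  [4, 4, 4],
  [6, 2, 2, 7],
  [4, 2, 2, 5],
  [7, 2, 2, 6],
  [7, 4, 7, 4],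
  [4, 7, 4, 7],
  [5, 2, 2, 4],
  [7, 7, 2, 6, 4],
  [5, 6, 4, 4, 6],
  [2, 4, 4, 4, 3],
  [5, 7, 2, 6, 6],
  [5, 7, 4, 7, 5],
  [2, 6, 6, 5, 7],
  [2, 6, 4, 7, 7],
  [7, 2, 6, 6, 5],
  [6, 6, 6, 6, 6],
  [6, 4, 4, 6, 5],
  [2, 7, 4, 7, 4, 3],
  [2, 4, 2, 2, 5, 3],
  [2, 4, 2, 4, 3, 4],
  [6, 2, 6, 3, 6, 3],
  [7, 2, 4, 6, 6, 3],
  [5, 2, 6, 2, 7, 7],
  [4, 7, 2, 6, 6, 4],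
  [7, 7, 4, 7, 4, 6],
  [2, 4, 6, 2, 4, 6],
  [5, 6, 2, 2, 7, 4],
  [4, 6, 6, 3, 7, 3],
  [4, 6, 4, 4, 6, 4],
  [6, 4, 6, 6, 6, 3],
  [2, 7, 5, 2, 7, 5],
  [7, 5, 2, 7, 5, 3],
  [6, 6, 2, 7, 3, 4],
  [5, 2, 6, 6, 4, 6],
  [6, 4, 2, 2, 5, 7],
  [6, 6, 4, 6, 5, 3],
  [2, 5, 2, 2, 4, 3],
  [2, 6, 2, 6, 3, 6],
  [2, 7, 2, 2, 6, 3],
  [4, 2, 4, 3, 4, 3],
  [2, 7, 2, 4, 6, 6],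
  [2, 4, 6, 6, 3, 7],
  [2, 6, 2, 2, 7, 3],
  [6, 2, 4, 6, 3, 4],
  [4, 6, 2, 4, 6, 3],
  [2, 4, 7, 4, 7, 3],
  [4, 7, 2, 2, 6, 5],
  [2, 7, 5, 6, 4, 3, 6],
  [7, 2, 5, 2, 6, 3, 5],
  [5, 6, 6, 2, 7, 3, 5],
  [4, 2, 6, 6, 5, 7, 5],
  [5, 2, 6, 4, 7, 7, 4],
  [5, 2, 4, 2, 4, 3, 5],
  [2, 7, 2, 6, 6, 5, 3],
  [2, 5, 7, 4, 7, 5, 3],
  [4, 2, 5, 2, 5, 3, 4],
  [5, 6, 6, 6, 3, 6, 5],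
  [2, 4, 2, 6, 4, 3, 7],
  [2, 7, 7, 4, 4, 3, 6],
  [5, 2, 7, 4, 4, 3, 7],
  [4, 2, 7, 2, 4, 3, 6],
  [2, 5, 2, 4, 4, 3, 5],
  [6, 4, 2, 6, 4, 6, 3],
  [5, 6, 2, 4, 6, 3, 5],
  [5, 2, 4, 4, 3, 5, 3],
  [4, 2, 6, 2, 7, 7, 4],
  [2, 5, 6, 4, 4, 6, 3],
  [4, 2, 6, 4, 3, 7, 3],
  [2, 7, 7, 2, 6, 4, 3],
  [2, 5, 7, 2, 6, 6, 3],
  [7, 5, 6, 4, 3, 6, 3],
  [7, 5, 6, 6, 6, 3, 4],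
  [2, 5, 2, 6, 3, 5, 7],
  [4, 6, 4, 6, 6, 6, 3, 5],
  [4, 2, 7, 4, 7, 4, 3, 5],
  [2, 6, 2, 4, 6, 3, 4, 3],
  [2, 5, 6, 2, 2, 7, 4, 3],
  [6, 2, 5, 6, 5, 7, 5, 3],
  [4, 6, 4, 2, 2, 5, 7, 5],
  [4, 2, 5, 7, 4, 3, 5, 7],
  [2, 4, 2, 7, 2, 7, 4, 6],
  [2, 4, 7, 2, 6, 6, 4, 3],
  [2, 5, 6, 6, 2, 4, 3, 7],
  [5, 6, 6, 4, 6, 5, 3, 4],
  [4, 2, 5, 6, 4, 3, 7, 4],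
  [2, 4, 7, 2, 2, 6, 5, 3],
  [6, 4, 2, 4, 7, 7, 4, 3],
  [7, 5, 6, 2, 6, 3, 5, 3],
  [7, 2, 5, 6, 6, 3, 4, 3],
  [4, 6, 4, 2, 6, 3, 7, 4],
  [2, 4, 6, 4, 4, 6, 4, 3],
  [5, 2, 7, 2, 4, 3, 6, 5],
  [5, 2, 4, 6, 3, 5, 7, 5],
  [6, 2, 5, 2, 7, 7, 4, 3],
  [4, 7, 2, 4, 6, 6, 3, 5],
  [2, 5, 2, 7, 4, 7, 3, 5],
  [5, 6, 2, 6, 4, 3, 6, 5],
  [5, 2, 4, 7, 4, 7, 3, 4],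
  [4, 7, 2, 5, 2, 6, 3, 4],
  [4, 2, 7, 7, 2, 6, 4, 3, 5],
  [4, 2, 7, 7, 4, 4, 3, 6, 5],
  [4, 2, 5, 6, 6, 3, 7, 4, 3],
  [4, 2, 5, 6, 2, 5, 7, 5, 3],
  [4, 6, 4, 2, 4, 3, 7, 4, 3],
  [2, 4, 6, 4, 2, 7, 4, 3, 5],
  [2, 5, 6, 6, 4, 6, 4, 3, 5],
  [4, 7, 2, 5, 6, 6, 5, 3, 4],
  [2, 4, 2, 7, 4, 3, 5, 7, 5],
  [2, 5, 6, 6, 6, 3, 6, 5, 3],
  [4, 2, 5, 7, 2, 6, 6, 3, 5],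
  [2, 5, 6, 2, 4, 6, 3, 5, 3],
  [2, 4, 6, 4, 6, 6, 6, 3, 5, 3],
  [2, 4, 7, 2, 5, 6, 6, 4, 3, 5],
  [2, 4, 2, 7, 7, 2, 6, 5, 3, 4],
  [5, 2, 4, 7, 2, 6, 6, 3, 5, 3],
  [2, 5, 6, 2, 6, 4, 3, 6, 5, 3],
  [2, 4, 7, 2, 4, 6, 6, 3, 5, 3],
  [2, 4, 7, 2, 5, 2, 6, 3, 4, 3],
  [2, 5, 2, 7, 2, 4, 3, 6, 5, 3],
  [2, 4, 2, 7, 7, 4, 4, 3, 6, 5, 3],
  [0, 0],
  [0, 2, 0, 3],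
  [0, 4, 0, 5],
  [0, 6, 0, 7]]

/-- Relations of the element of order seven. -/
def relsS : List (List Nat) := [
  [8, 8, 8, 8, 8, 8, 8],
  [4, 8, 5, 9, 9],
  [8, 0, 9, 3],
  [8, 2, 9, 4, 3, 5],
  [8, 4, 2, 5, 9, 3, 1]]

/-- Trivial relations. -/
def relsT : List (List Nat) := [[], [0, 1], [1, 0], [2, 3], [3, 2], [4, 5], [5, 4], [6, 7], [7, 6], [8, 9], [9, 8]]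

/-- All relations, given the commutator relation. -/
def relsAll (r : List Nat) : List (List Nat) := relsC ++ relsS ++ [r] ++ relsT

/-- Generators of the centralizer. -/
def subW : List (List Nat) := [[0], [2], [4], [6]]

/-- Good commutator relation. ('v', (1, 2, 0, 3, 4), (1, 2, 3, 4, 0)) -/
def relGood : List Nat := [8, 6, 9, 2, 5, 6, 8, 7, 9, 7, 4, 3]

/-- Bad0 commutator relation. ('v', (1, 2, 0, 3, 4), (3, 4, 1, 2, 0)) -/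
def relBad0 : List Nat := [8, 2, 5, 7, 9, 2, 5, 6, 8, 6, 4, 3, 9, 7, 4, 3]

/-- Bad1 commutator relation. ('tv', (1, 2, 0, 3, 4), (2, 4, 3, 1, 0)) -/
def relBad1 : List Nat := [8, 8, 8, 6, 4, 9, 9, 9, 2, 5, 6, 8, 8, 8, 5, 7, 9, 9, 9, 7, 4, 3]

/-- Bad2 commutator relation. ('tv', (1, 2, 0, 3, 4), (3, 2, 4, 1, 0)) -/
def relBad2 : List Nat := [8, 8, 8, 5, 2, 6, 9, 9, 9, 2, 5, 6, 8, 8, 8, 7, 3, 4, 9, 9, 9, 7, 4, 3]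

/-- Words for all elements of the centralizer. -/
def wordsC : List (List Nat) := [
  [],
  [7],
  [5],
  [6],
  [2],
  [4],
  [7, 7],
  [7, 5],
  [7, 2],
  [5, 7],
  [5, 6],
  [5, 2],
  [6, 6],
  [6, 2],
  [6, 4],
  [2, 7],
  [2, 5],
  [2, 6],
  [2, 4],
  [4, 7],
  [4, 6],
  [4, 2],
  [7, 5, 6],
  [7, 2, 5],
  [5, 6, 6],
  [5, 6, 2],
  [5, 2, 7],
  [5, 2, 6],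
  [5, 2, 4],
  [6, 2, 5],
  [6, 4, 2],
  [2, 7, 7],
  [2, 7, 5],
  [2, 7, 2],
  [2, 5, 7],
  [2, 5, 6],
  [2, 5, 2],
  [2, 6, 2],
  [2, 4, 7],
  [2, 4, 6],
  [2, 4, 2],
  [4, 7, 2],
  [4, 6, 4],
  [4, 2, 7],
  [4, 2, 5],
  [4, 2, 6],
  [5, 2, 4, 7],
  [2, 5, 6, 6],
  [2, 5, 6, 2],
  [2, 5, 2, 7],
  [2, 4, 7, 2],
  [2, 4, 6, 4],
  [2, 4, 2, 7],
  [4, 7, 2, 5],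
  [4, 6, 4, 2],
  [4, 2, 7, 7],
  [4, 2, 5, 7],
  [4, 2, 5, 6],
  [2, 4, 7, 2, 5],
  [2, 4, 2, 7, 7],
  [0],
  [0, 7],
  [0, 5],
  [0, 6],
  [0, 2],
  [0, 4],
  [0, 7, 7],
  [0, 7, 5],
  [0, 7, 2],
  [0, 5, 7],
  [0, 5, 6],
  [0, 5, 2],
  [0, 6, 6],
  [0, 6, 2],
  [0, 6, 4],
  [0, 2, 7],
  [0, 2, 5],
  [0, 2, 6],
  [0, 2, 4],
  [0, 4, 7],
  [0, 4, 6],
  [0, 4, 2],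
  [0, 7, 5, 6],
  [0, 7, 2, 5],
  [0, 5, 6, 6],
  [0, 5, 6, 2],
  [0, 5, 2, 7],
  [0, 5, 2, 6],
  [0, 5, 2, 4],
  [0, 6, 2, 5],
  [0, 6, 4, 2],
  [0, 2, 7, 7],
  [0, 2, 7, 5],
  [0, 2, 7, 2],
  [0, 2, 5, 7],
  [0, 2, 5, 6],
  [0, 2, 5, 2],
  [0, 2, 6, 2],
  [0, 2, 4, 7],
  [0, 2, 4, 6],
  [0, 2, 4, 2],
  [0, 4, 7, 2],
  [0, 4, 6, 4],
  [0, 4, 2, 7],
  [0, 4, 2, 5],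
  [0, 4, 2, 6],
  [0, 5, 2, 4, 7],
  [0, 2, 5, 6, 6],
  [0, 2, 5, 6, 2],
  [0, 2, 5, 2, 7],
  [0, 2, 4, 7, 2],
  [0, 2, 4, 6, 4],
  [0, 2, 4, 2, 7],
  [0, 4, 7, 2, 5],
  [0, 4, 6, 4, 2],
  [0, 4, 2, 7, 7],
  [0, 4, 2, 5, 7],
  [0, 4, 2, 5, 6],
  [0, 2, 4, 7, 2, 5],
  [0, 2, 4, 2, 7, 7]]

end Cfsg.Lib.J1Unique
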