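import Cfsg.Agent.Lib.J1Unique.Facts
import Cfsg.Agent.Lib.J1Unique.Good.Defs
import Cfsg.Agent.Lib.J1Unique.Good.Closed
import Cfsg.Agent.Lib.J1Unique.Good.Steps0
import Cfsg.Agent.Lib.J1Unique.Good.Steps1
import Cfsg.Agent.Lib.J1Unique.Good.Steps2
import Cfsg.Agent.Lib.J1Unique.Good.Steps3
import Cfsg.Agent.Lib.J1Unique.Bad0.Defs
import Cfsg.Agent.Lib.J1Unique.Bad0.Last
import Cfsg.Agent.Lib.J1Unique.Bad0.Steps0
import Cfsg.Agent.Lib.J1Unique.Bad0.Steps1
import Cfsg.Agent.Lib.J1Unique.Bad1.Defs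
import Cfsg.Agent.Lib.J1Unique.Bad1.Last
import Cfsg.Agent.Lib.J1Unique.Bad1.Steps0
import Cfsg.Agent.Lib.J1Unique.Bad1.Steps1
import Cfsg.Agent.Lib.J1Unique.Bad1.Steps2
import Cfsg.Agent.Lib.J1Unique.Bad1.Steps3
import Cfsg.Agent.Lib.J1Unique.Bad2.Defs
import Cfsg.Agent.Lib.J1Unique.Bad2.Last
import Cfsg.Agent.Lib.J1Unique.Bad2.Steps0
import Cfsg.Agent.Lib.J1Unique.Bad2.Steps1
import Cfsg.Agent.Lib.J1Unique.Bad2.Steps2
import Cfsg.Agent.Lib.J1Unique.Bad2.Steps3

/-!
# Consequences of the certificates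
-/

set_option autoImplicit false

namespace Cfsg.Lib.J1Unique

open Cfsg.Lib.J1Order
open Cfsg.Lib.CosetEnum (Holds gen act)

variable {G : Type*} [Group G] {ψ : Model.M →* G} {s : G}

/-- The group generated by the amalgam. -/
def span (ψ : Model.M →* G) (s : G) : Subgroup G := Subgroup.closure (gb ψ s '' {g | g < 10})

theorem gb_mem_span {g : ℕ} (hg : g < 10) : gb ψ s g ∈ span ψ s :=
  Subgroup.subset_closure ⟨g, hg, rfl⟩

theorem s_mem_span : s ∈ span ψ s := by
  have := gb_mem_span (ψ := ψ) (s := s) (g := 8) (by norm_num)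
  rwa [(gb_vals (ψ := ψ) (s := s)).2.2.2.2.2.2.2.2.1] at this

theorem range_le_span : ψ.range ≤ span ψ s := by
  rintro _ ⟨m, rfl⟩
  obtain ⟨w, hw, rfl⟩ := List.mem_map.1 (wordsC_all m)
  rw [← ev_model ψ s (wordsC_ok w hw)]
  refine Subgroup.list_prod_mem _ ?_
  intro y hy
  obtain ⟨g, hg, rfl⟩ := List.mem_map.1 hy
  exact gb_mem_span (by have := wordsC_ok w hw g hg; omega)

/-- The action on the cosets of the centralizer satisfies all relations. -/
theorem act_rels (h : Tuple ψ s) {r : List ℕ} (hr : ev (gb ψ s) r = 1) (hr' : ∀ g ∈ r, g < 10) :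
    (∀ q ∈ relsAll r, ∀ c : G ⧸ ψ.range, act (fun k => (gb ψ s k)⁻¹) q c = c) ∧
      ∀ q ∈ subW, act (fun k => (gb ψ s k)⁻¹) q ((1 : G) : G ⧸ ψ.range) =
        ((1 : G) : G ⧸ ψ.range) := by
  refine ⟨fun q hq c => ?_, fun q hq => ?_⟩
  · rw [act_inv_eq _ _ _ (h.rels hr hr' q hq).2, (h.rels hr hr' q hq).1, inv_one, one_smul]
  · have hlt : ∀ q ∈ subW, ∀ g ∈ q, g < 8 := by decide +kernel
    rw [act_inv_eq _ _ _ (fun g hg => by have := hlt q hq g hg; simp [CosetEnum.eps]; omega),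
      ev_model ψ s (hlt q hq), MulAction.Quotient.smul_mk, QuotientGroup.eq]
    simp only [smul_eq_mul, mul_one, inv_inv]
    exact ⟨_, rfl⟩

/-- The element of order seven lies outside the centralizer. -/
theorem absurd_of_fix (h : Tuple ψ s) (hinj : Function.Injective ψ) {F : CosetEnum.Tab}
    {φ : ℕ → G ⧸ ψ.range} (hφ0 : φ 0 = ((1 : G) : G ⧸ ψ.range)) {i : ℕ}
    (hF : Holds (fun k => (gb ψ s k)⁻¹) F φ (i + 1)) (hl : lastOK F i = true) : False := by
  simp only [lastOK, Bool.and_eq_true, Nat.beq_eq] at hl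
  obtain ⟨⟨e1, e2⟩, e3⟩ := hl
  have hf := hF i (Nat.lt_succ_self i)
  rw [e1, e2, e3, hφ0, gen, if_neg (by simp [CosetEnum.eps]),
    (gb_vals (ψ := ψ) (s := s)).2.2.2.2.2.2.2.2.1, MulAction.Quotient.smul_mk,
    QuotientGroup.eq] at hf
  simp only [smul_eq_mul, mul_one, inv_inv] at hf
  obtain ⟨m, hm⟩ := hf
  have e4 := h.hM 4
  rw [show M0 4 = 1 from rfl, EM_vals.1, EM_vals.2.2.1] at e4
  have hcomm : m * Model.tM = Model.tM * m := Model.tM_central m
  have hne : Model.vM ≠ Model.tM := Model.vM_facts.2.2.1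
  refine hne (hinj ?_)
  rw [← e4, ← hm, ← map_inv, ← map_mul, ← map_mul, hcomm]
  simp

theorem bad0_false (h : Tuple ψ s) (hinj : Function.Injective ψ) (hc : Comm ψ s 1 zBad0) :
    False := by
  have hx := gen_invL_gb ψ s
  obtain ⟨hR, hU0⟩ := act_rels h (rel_bad0 hc) (by decide +kernel)
  obtain ⟨φ, hφ0, h0, hU⟩ := exists_holds hx hR _ hU0 Bad0.defs_ok
  have h1 := stepsOK_sound hx hR hU Bad0.steps_0 (by simpa using h0)
  have h2 := stepsOK_sound hx hR hU Bad0.steps_1 (by simpa using h1)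
  exact absurd_of_fix h hinj hφ0 (by simpa using h2) Bad0.last_ok

theorem bad1_false (h : Tuple ψ s) (hinj : Function.Injective ψ) (hc : Comm ψ s 3 zBad1) :
    False := by
  have hx := gen_invL_gb ψ s
  obtain ⟨hR, hU0⟩ := act_rels h (rel_bad1 hc) (by decide +kernel)
  obtain ⟨φ, hφ0, h0, hU⟩ := exists_holds hx hR _ hU0 Bad1.defs_ok
  have h1 := stepsOK_sound hx hR hU Bad1.steps_0 (by simpa using h0)
  have h2 := stepsOK_sound hx hR hU Bad1.steps_1 (by simpa using h1)
  have h3 := stepsOK_sound hx hR hU Bad1.steps_2 (by simpa using h2)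
  have h4 := stepsOK_sound hx hR hU Bad1.steps_3 (by simpa using h3)
  exact absurd_of_fix h hinj hφ0 (by simpa using h4) Bad1.last_ok

theorem bad2_false (h : Tuple ψ s) (hinj : Function.Injective ψ) (hc : Comm ψ s 3 zBad2) :
    False := by
  have hx := gen_invL_gb ψ s
  obtain ⟨hR, hU0⟩ := act_rels h (rel_bad2 hc) (by decide +kernel)
  obtain ⟨φ, hφ0, h0, hU⟩ := exists_holds hx hR _ hU0 Bad2.defs_ok
  have h1 := stepsOK_sound hx hR hU Bad2.steps_0 (by simpa using h0)
  have h2 := stepsOK_sound hx hR hU Bad2.steps_1 (by simpa using h1)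
  have h3 := stepsOK_sound hx hR hU Bad2.steps_2 (by simpa using h2)
  have h4 := stepsOK_sound hx hR hU Bad2.steps_3 (by simpa using h3)
  exact absurd_of_fix h hinj hφ0 (by simpa using h4) Bad2.last_ok

theorem good_bound (h : Tuple ψ s) (hc : Comm ψ s 1 zGood) :
    Nat.card (span ψ s) ≤ 1463 * 120 := by
  have hx := gen_invL_gb ψ s
  obtain ⟨hR, hU0⟩ := act_rels h (rel_good hc) (by decide +kernel)
  obtain ⟨φ, hφ0, h0, hU⟩ := exists_holds hx hR _ hU0 Good.defs_ok
  have h1 := stepsOK_sound hx hR hU Good.steps_0 (by simpa using h0)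
  have h2 := stepsOK_sound hx hR hU Good.steps_1 (by simpa using h1)
  have h3 := stepsOK_sound hx hR hU Good.steps_2 (by simpa using h2)
  have h4 := stepsOK_sound hx hR hU Good.steps_3 (by simpa using h3)
  have hstep := closedOK_sound hx (show Holds _ _ φ 7315 by simpa using h4) Good.closed_ok
  set A : Set (G ⧸ ψ.range) := φ '' {j | j < 1463} with hA
  have hmove : ∀ g < 10, ∀ a ∈ A, (gb ψ s g)⁻¹ • a ∈ A := by
    rintro g hg _ ⟨j, hj, rfl⟩
    obtain ⟨u, hu, e⟩ := hstep j (Nat.zero_le _) (by simpa using hj) g hg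
    rw [gen, if_neg (by simp [CosetEnum.eps]; omega)] at e
    exact ⟨u, hu, e.symm⟩
  have hAf : A.Finite := (Set.finite_lt_nat _).image _
  have hclosed : ∀ y ∈ span ψ s, ∀ a ∈ A, y • a ∈ A := by
    intro y hy
    induction hy using Subgroup.closure_induction'' with
    | one => simp
    | mul y z _ _ hy hz => intro a ha; rw [mul_smul]; exact hy _ (hz a ha)
    | mem y hy =>
      obtain ⟨g, hg, rfl⟩ := hy
      intro a ha
      -- the inverse label
      have hg' : g ^^^ 1 < 10 := by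
        have : ∀ g < 10, g ^^^ 1 < 10 := by decide
        exact this g hg
      have := hmove (g ^^^ 1) hg' a ha
      rwa [gb_xor, inv_inv] at this
    | inv_mem y hy =>
      obtain ⟨g, hg, rfl⟩ := hy
      exact hmove g hg
  set q₀ : G ⧸ ψ.range := ((1 : G) : G ⧸ ψ.range)
  have hsub : MulAction.orbit (span ψ s) q₀ ⊆ A := by
    rintro _ ⟨⟨y, hy⟩, rfl⟩
    exact hclosed y hy q₀ ⟨0, by simp, hφ0⟩
  have horb : Set.ncard (MulAction.orbit (span ψ s) q₀) ≤ 1463 := by
    refine (Set.ncard_le_ncard hsub hAf).trans ((Set.ncard_image_le (Set.finite_lt_nat _)).trans ?_)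
    rw [show {j : ℕ | j < 1463} = ↑(Finset.range 1463) by ext; simp, Set.ncard_coe_finset,
      Finset.card_range]
  rw [← (MulAction.stabilizer (span ψ s) q₀).card_mul_index, MulAction.index_stabilizer, mul_comm]
  refine Nat.mul_le_mul horb ?_
  have hrange : Nat.card ψ.range ≤ 120 := by
    refine (Finite.card_range_le ψ).trans ?_
    rw [Nat.card_eq_fintype_card, Model.card_M.1]
  haveI : Finite ψ.range := Finite.of_surjective _ ψ.rangeRestrict_surjective
  refine le_trans (Nat.card_le_card_of_injective (fun z => (⟨((z : span ψ s) : G), ?_⟩ : ψ.range))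
    fun a b e => Subtype.ext (Subtype.ext (congrArg Subtype.val e :))) hrange
  have := z.2
  rw [MulAction.mem_stabilizer_iff] at this
  change ((z : span ψ s) : G) • q₀ = q₀ at this
  rw [MulAction.Quotient.smul_mk, QuotientGroup.eq, smul_eq_mul, mul_one, mul_one] at this
  simpa using inv_mem this

end Cfsg.Lib.J1Unique
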