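import Cfsg.Agent.Lib.CosetEnum.Defs

/-!
# Coset enumeration checks with generators that need not be involutions

A label `g` and the label `g ^^^ 1` stand for inverse generators. A reference `2 * r + d` means the
fact `r`, traversed forwards for `d = 0` and backwards for `d = 1`.
-/

set_option autoImplicit false

namespace Cfsg.Lib.J1Unique

open Cfsg.Lib.CosetEnum

/-- The inverse label. -/
def invL (g : Nat) : Nat := cond (Nat.beq g eps) g (Nat.xor g 1)

/-- The inverse word. -/
def invW (w : List Nat) : List Nat := (w.map invL).reverse

/-- Follow references from a node; returns the end node and the word read. -/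
noncomputable def walk (F : Tab) (bound : Nat) : List Nat → Nat → Option (Nat × List Nat)
  | [], cur => some (cur, [])
  | r :: rs, cur =>
    cond (Nat.blt (r / 2) bound)
      (force (F.getP (r / 2)) fun f =>
        cond (Nat.beq (r % 2) 0)
          (cond (Nat.beq (fu f) cur)
            (force (fv f) fun nx => match walk F bound rs nx with
              | some (e, w) => some (e, consG (fg f) w)
              | none => none)
            none)
          (cond (Nat.beq (fv f) cur)
            (force (fu f) fun nx => match walk F bound rs nx with
              | some (e, w) => some (e, consG (invL (fg f)) w)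
              | none => none)
            none))
      none

/-- Check a derived fact: a relation word read from a node, with one gap. -/
noncomputable def stepOK (R U : List (List Nat)) (F : Tab) (i : Nat) : List Nat → Bool
  | k :: s :: p :: refs =>
    (Nat.blt k R.length || Nat.beq s 0) &&
      match walk F i (refs.take p) s, walk F i (refs.drop p) s with
      | some (u, w), some (v, w') =>
        Nat.beq (fu (F.getP i)) u && Nat.beq (fv (F.getP i)) v &&
          beqW (w ++ consG (fg (F.getP i)) (invW w')) ((R ++ U).getD k [eps])
      | _, _ => false
  | _ => false

/-- Check a range of derived facts. -/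
noncomputable def stepsOK (R U : List (List Nat)) (F C : Tab) (d : Nat) : Nat → Nat → Bool
  | 0, _ => true
  | n + 1, j => force j fun j =>
      stepOK R U F (d + j) (digits 400 (C.get j)) && stepsOK R U F C d n (j + 1)

/-- One edge of the table is a proved fact. -/
noncomputable def edgeOK (F : Tab) (bound n g i t r : Nat) : Bool :=
  Nat.blt t n && Nat.blt (r / 2) bound && force (F.getP (r / 2)) fun f =>
    cond (Nat.beq (r % 2) 0)
      (Nat.beq (fg f) g && Nat.beq (fu f) i && Nat.beq (fv f) t)
      (Nat.beq (invL (fg f)) g && Nat.beq (fv f) i && Nat.beq (fu f) t)

/-- Check that the ten generators keep the representatives in place. -/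
noncomputable def closedOK (F Z P : Tab) (bound n : Nat) : Nat → Nat → Bool
  | 0, _ => true
  | m + 1, i => force i fun i =>
      ([0, 1, 2, 3, 4, 5, 6, 7, 8, 9].all fun g =>
        edgeOK F bound n g i (P.getP (i * 10 + g)) (Z.getP (i * 10 + g))) &&
        closedOK F Z P bound n m (i + 1)

/-- The last fact of a certificate says that the generator labelled `8` fixes the base node. -/
noncomputable def lastOK (F : Tab) (i : Nat) : Bool :=
  Nat.beq (fu (F.getP i)) 0 && Nat.beq (fv (F.getP i)) 0 && Nat.beq (fg (F.getP i)) 8

end Cfsg.Lib.J1Unique
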