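import Mathlib
import Cfsg.Agent.Lib.CosetEnum.Check
import Cfsg.Agent.Lib.J1Unique.Checker

/-!
# Soundness of the checks
-/

set_option autoImplicit false

namespace Cfsg.Lib.J1Unique

open Cfsg.Lib.CosetEnum (Tab B eps fu fv fg force force_eq consG beqW beqW_eq gen act act_append
  act_consG Holds digits defsOK defsOK_get exists_labelling)

variable {G : Type*} [Group G]

/-- The product of a word. -/
def ev (b : ℕ → G) (w : List ℕ) : G := (w.map b).prod

theorem ev_append (b : ℕ → G) (v w : List ℕ) : ev b (v ++ w) = ev b v * ev b w := by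
  simp [ev]

theorem ev_cons (b : ℕ → G) (g : ℕ) (w : List ℕ) : ev b (g :: w) = b g * ev b w := by
  simp [ev]

@[simp] theorem ev_nil (b : ℕ → G) : ev b [] = 1 := rfl

theorem ev_map {H : Type*} [Group H] (f : G →* H) (b : ℕ → G) (b' : ℕ → H) (w : List ℕ)
    (h : ∀ g ∈ w, f (b g) = b' g) : f (ev b w) = ev b' w := by
  induction w with
  | nil => simp
  | cons g w ih =>
    rw [ev_cons, ev_cons, map_mul, h g (by simp), ih fun k hk => h k (by simp [hk])]

theorem act_inv_eq {α : Type*} [MulAction G α] (b : ℕ → G) :
    ∀ (w : List ℕ) (q : α), (∀ g ∈ w, g ≠ eps) → act (fun g => (b g)⁻¹) w q = (ev b w)⁻¹ • q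
  | [], q, _ => by simp
  | g :: w, q, h => by
    rw [Cfsg.Lib.CosetEnum.act_cons, act_inv_eq b w _ fun k hk => h k (by simp [hk]), ev_cons,
      gen, if_neg (h g (by simp)), mul_inv_rev, mul_smul]

variable {α : Type*} [MulAction G α] {x : ℕ → G} (hx : ∀ g, gen x (invL g) = (gen x g)⁻¹)

include hx

theorem act_invW_act : ∀ (w : List ℕ) (q : α), act x (invW w) (act x w q) = q
  | [], q => rfl
  | g :: w, q => by
    have e : invW (g :: w) = invW w ++ [invL g] := by simp [invW]
    rw [e, act_append, Cfsg.Lib.CosetEnum.act_cons (q := q), act_invW_act w,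
      Cfsg.Lib.CosetEnum.act_cons, Cfsg.Lib.CosetEnum.act_nil, hx, inv_smul_smul]

theorem walk_sound {F : Tab} {φ : ℕ → α} {bound : ℕ} (h : Holds x F φ bound) :
    ∀ {rs : List ℕ} {cur e : ℕ} {w : List ℕ},
      walk F bound rs cur = some (e, w) → act x w (φ cur) = φ e
  | [], cur, e, w, hw => by
    simp only [walk, Option.some.injEq, Prod.mk.injEq] at hw
    rw [← hw.1, ← hw.2]
    rfl
  | r :: rs, cur, e, w, hw => by
    rw [walk] at hw
    cases hr : Nat.blt (r / 2) bound with
    | false => rw [hr] at hw; simp at hw
    | true =>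
      rw [hr, cond_true, force_eq] at hw
      have hf := h (r / 2) (by simpa [Nat.blt_eq] using hr)
      cases h1 : Nat.beq (r % 2) 0 with
      | true =>
        rw [h1, cond_true] at hw
        cases h2 : Nat.beq (fu (F.getP (r / 2))) cur with
        | false => rw [h2] at hw; simp at hw
        | true =>
          rw [h2, cond_true, force_eq] at hw
          split at hw
          · next e' w' heq =>
            simp only [Option.some.injEq, Prod.mk.injEq] at hw
            rw [← hw.1, ← hw.2, act_consG, ← Nat.eq_of_beq_eq_true h2, hf]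
            exact walk_sound h heq
          · simp at hw
      | false =>
        rw [h1, cond_false] at hw
        cases h2 : Nat.beq (fv (F.getP (r / 2))) cur with
        | false => rw [h2] at hw; simp at hw
        | true =>
          rw [h2, cond_true, force_eq] at hw
          split at hw
          · next e' w' heq =>
            simp only [Option.some.injEq, Prod.mk.injEq] at hw
            rw [← hw.1, ← hw.2, act_consG, ← Nat.eq_of_beq_eq_true h2, ← hf, hx, inv_smul_smul]
            exact walk_sound h heq
          · simp at hw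

theorem stepOK_sound {R U : List (List ℕ)} (hR : ∀ r ∈ R, ∀ q : α, act x r q = q) {F : Tab}
    {φ : ℕ → α} {i : ℕ} (hU : ∀ r ∈ U, act x r (φ 0) = φ 0) (h : Holds x F φ i) :
    ∀ {c : List ℕ}, stepOK R U F i c = true → Holds x F φ (i + 1)
  | [], hc => by simp [stepOK] at hc
  | [_], hc => by simp [stepOK] at hc
  | [_, _], hc => by simp [stepOK] at hc
  | k :: s :: p :: refs, hc => by
    simp only [stepOK, Bool.and_eq_true, Bool.or_eq_true] at hc
    obtain ⟨hk, hc⟩ := hc
    split at hc
    · next u w v w' hwu hwv =>
      simp only [Bool.and_eq_true, Nat.beq_eq] at hc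
      obtain ⟨⟨hu, hv⟩, hword⟩ := hc
      have hword := beqW_eq hword
      have hrel : act x ((R ++ U).getD k [eps]) (φ s) = φ s := by
        rcases Nat.lt_or_ge k (R ++ U).length with hlt | hge
        · rw [List.getD_eq_getElem _ _ hlt]
          rcases Nat.lt_or_ge k R.length with h1 | h1
          · rw [List.getElem_append_left h1]
            exact hR _ (List.getElem_mem h1) _
          · rw [List.getElem_append_right h1]
            rcases hk with hk | hk
            · rw [Nat.blt_eq] at hk; omega
            · rw [Nat.beq_eq] at hk; subst hk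
              exact hU _ (List.getElem_mem _)
        · rw [List.getD_eq_default _ _ hge]
          simp [gen]
      rw [← hword, act_append, walk_sound hx h hwu, act_consG] at hrel
      have h3 := act_invW_act hx (invW w') (gen x (fg (F.getP i)) • φ u)
      rw [hrel] at h3
      have hii : invW (invW w') = w'.map fun g => invL (invL g) := by
        simp [invW, List.map_reverse, List.map_map, Function.comp_def]
      have hact : ∀ (l : List ℕ) (q : α), act x (l.map fun g => invL (invL g)) q = act x l q := by
        intro l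
        induction l with
        | nil => intro q; rfl
        | cons g l ih =>
          intro q
          rw [List.map_cons, Cfsg.Lib.CosetEnum.act_cons, Cfsg.Lib.CosetEnum.act_cons, ih, hx, hx,
            inv_inv]
      rw [hii, hact, walk_sound hx h hwv] at h3
      intro r hr
      rcases Nat.lt_succ_iff_lt_or_eq.1 hr with hr | hr
      · exact h r hr
      · subst hr
        rw [hu, hv]
        exact h3.symm
    · simp at hc

theorem stepsOK_sound {R U : List (List ℕ)} (hR : ∀ r ∈ R, ∀ q : α, act x r q = q) {F C : Tab}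
    {φ : ℕ → α} {d : ℕ} (hU : ∀ r ∈ U, act x r (φ 0) = φ 0) : ∀ {n j : ℕ},
      stepsOK R U F C d n j = true → Holds x F φ (d + j) → Holds x F φ (d + j + n)
  | 0, j, _, h => h
  | n + 1, j, hc, h => by
    rw [stepsOK, force_eq, Bool.and_eq_true] at hc
    have := stepsOK_sound hR hU (n := n) (j := j + 1) hc.2 (stepOK_sound hx hR hU h hc.1)
    rwa [show d + (j + 1) + n = d + j + (n + 1) by omega] at this

theorem closedOK_sound {F Z P : Tab} {φ : ℕ → α} {bound n : ℕ} (hF : Holds x F φ bound) :
    ∀ {m i : ℕ}, closedOK F Z P bound n m i = true → ∀ j, i ≤ j → j < i + m →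
      ∀ g < 10, ∃ t < n, gen x g • φ j = φ t
  | 0, i, _, j, h1, h2 => by omega
  | m + 1, i, hc, j, h1, h2 => by
    rw [closedOK, force_eq, Bool.and_eq_true, List.all_eq_true] at hc
    rcases Nat.eq_or_lt_of_le h1 with h | h
    · subst h
      intro g hg
      have := hc.1 g (by simp; omega)
      simp only [edgeOK, force_eq, Bool.and_eq_true, Nat.blt_eq] at this
      obtain ⟨⟨ht, hr⟩, hf⟩ := this
      refine ⟨_, ht, ?_⟩
      have hh := hF _ hr
      generalize P.getP (i * 10 + g) = tg at hf ⊢
      cases h2 : Nat.beq (Z.getP (i * 10 + g) % 2) 0 <;>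
        simp only [h2, cond_true, cond_false, Bool.and_eq_true, Nat.beq_eq] at hf <;>
        obtain ⟨⟨e1, e2⟩, e3⟩ := hf
      all_goals first
        | (rw [e1, e2, e3] at hh; exact hh)
        | (rw [e2, e3] at hh; rw [← e1, hx, ← hh, inv_smul_smul])
    · exact closedOK_sound hF hc.2 j h (by omega)

/-- A checked certificate labels its nodes so that all its facts hold. -/
theorem exists_holds {R U : List (List ℕ)} (hR : ∀ r ∈ R, ∀ q : α, act x r q = q) (q₀ : α)
    (hU : ∀ r ∈ U, act x r q₀ = q₀) {F : Tab} {d : ℕ} (h1 : defsOK F d 0 = true) :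
    ∃ φ : ℕ → α, φ 0 = q₀ ∧ Holds x F φ d ∧ ∀ r ∈ U, act x r (φ 0) = φ 0 := by
  obtain ⟨φ, h0, hφ⟩ := exists_labelling x q₀ (F := F) (d := d)
    fun i hi => defsOK_get h1 i (Nat.zero_le _) (by omega)
  exact ⟨φ, h0, hφ, by rw [h0]; exact hU⟩

end Cfsg.Lib.J1Unique
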