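import Cfsg.Agent.Lib.J1Order.Model
import Cfsg.Agent.Lib.J1Unique.Sound
import Cfsg.Agent.Lib.J1Unique.Words

/-!
# The amalgam of the involution centralizer and the normalizer of its Sylow 2-subgroup
-/

set_option autoImplicit false

namespace Cfsg.Lib.J1Unique

open Cfsg.Lib.J1Order

/-- A three-cycle normalizing the four-group through `Model.invert`. -/
def xA : Model.A5 :=
  ⟨Equiv.swap 0 1 * Equiv.swap 1 3, Equiv.Perm.mem_alternatingGroup.2 (by decide)⟩

/-- The four-group. -/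
def vA : Fin 4 → Model.A5 :=
  ![1, Model.invert, xA * Model.invert * xA⁻¹, Model.invert * (xA * Model.invert * xA⁻¹)]

/-- The three-cycle in the model. -/
def xM : Model.M := (1, xA)

/-- The five-cycle in the model. -/
def cM : Model.M := (1, Model.five)

/-- The Sylow 2-subgroup of the model, numbered. -/
def EM (n : Fin 8) : Model.M :=
  (Multiplicative.ofAdd ((n.val / 4 : ℕ) : ZMod 2), vA ⟨n.val % 4, Nat.mod_lt _ (by norm_num)⟩)

/-- The action of the element of order seven. -/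
def M0 : Fin 8 → Fin 8 := ![0, 2, 5, 7, 1, 3, 4, 6]

/-- The generators of the model. -/
def baseM : ℕ → Model.M
  | 0 => Model.tM
  | 1 => Model.vM
  | 2 => xM
  | 3 => cM
  | _ => 1

/-- Generators and inverses by label. -/
def signed {G : Type*} [Group G] (a : ℕ → G) (g : ℕ) : G :=
  if g % 2 = 0 then a (g / 2) else (a (g / 2))⁻¹

/-- The labelled generators of the amalgam in a group. -/
def gb {G : Type*} [Group G] (ψ : Model.M →* G) (s : G) : ℕ → G :=
  signed fun k => if k = 4 then s else ψ (baseM k)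

/-- The labelled generators of the model. -/
def bM : ℕ → Model.M := signed baseM

theorem relsC_ok : ∀ r ∈ relsC, ev bM r = 1 ∧ ∀ g ∈ r, g < 8 := by decide +kernel

theorem wordsC_ok : ∀ r ∈ wordsC, ∀ g ∈ r, g < 8 := by decide +kernel

theorem wordsC_all : ∀ m : Model.M, m ∈ wordsC.map (ev bM) := by decide +kernel

theorem three_word : ev bM [2, 5, 6] = Model.wM := by decide +kernel

theorem EM_vals : EM 4 = Model.tM ∧ EM 2 = xM * Model.vM * xM⁻¹ ∧ EM 1 = Model.vM ∧
    EM 7 = Model.tM * Model.vM * (xM * Model.vM * xM⁻¹) ∧ EM 5 = Model.tM * Model.vM ∧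
    EM 0 = 1 := by decide +kernel

variable {G : Type*} [Group G]

/-- An embedding of the model and an element of order seven normalizing the Sylow 2-subgroup. -/
structure Tuple (ψ : Model.M →* G) (s : G) : Prop where
  s7 : s ^ 7 = 1
  hx : ψ xM * s * (ψ xM)⁻¹ = s ^ 2
  hM : ∀ n, s * ψ (EM n) * s⁻¹ = ψ (EM (M0 n))

/-- The conjugate of a model element commutes with the element of order three. -/
def Comm (ψ : Model.M →* G) (s : G) (i : ℕ) (z : Model.M) : Prop :=
  Commute (s ^ i * ψ z * (s ^ i)⁻¹) (ψ Model.wM)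

/-- The good element of order five. -/
def zGood : Model.M := cM
/-- The first bad element. -/
def zBad0 : Model.M := Model.vM * xM⁻¹ * cM⁻¹
/-- The second bad element. -/
def zBad1 : Model.M := cM * xM
/-- The third bad element. -/
def zBad2 : Model.M := xM⁻¹ * Model.vM * cM

theorem gb_xor (ψ : Model.M →* G) (s : G) (g : ℕ) : gb ψ s (g ^^^ 1) = (gb ψ s g)⁻¹ := by
  have hd : (g ^^^ 1) / 2 = g / 2 := by simpa using Nat.xor_div_two (a := g) (b := 1)
  have hm : (g ^^^ 1) % 2 = (g % 2 + 1) % 2 := by rw [Nat.xor_mod_two_eq]; omega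
  simp only [gb, signed, hd, hm]
  rcases Nat.mod_two_eq_zero_or_one g with e | e <;> simp [e]

theorem gen_invL_gb (ψ : Model.M →* G) (s : G) (g : ℕ) :
    CosetEnum.gen (fun k => (gb ψ s k)⁻¹) (invL g) =
      (CosetEnum.gen (fun k => (gb ψ s k)⁻¹) g)⁻¹ := by
  unfold invL
  cases h : Nat.beq g CosetEnum.eps with
  | true => rw [Nat.beq_eq] at h; simp [CosetEnum.gen, h]
  | false =>
    have hg : g ≠ CosetEnum.eps := fun e => by rw [e] at h; simp at h
    simp only [cond_false, CosetEnum.gen, if_neg hg]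
    have hx := gb_xor ψ s g
    by_cases h1 : Nat.xor g 1 = CosetEnum.eps
    · rw [if_pos h1]
      have h2 : g = 30 := by
        have := congrArg (fun n => n ^^^ 1) (show g ^^^ 1 = 31 from h1)
        simpa [Nat.xor_assoc] using this
      subst h2
      simp [gb, signed, baseM]
    · rw [if_neg h1]
      exact congrArg _ hx

theorem ev_model (ψ : Model.M →* G) (s : G) {r : List ℕ} (h : ∀ g ∈ r, g < 8) :
    ev (gb ψ s) r = ψ (ev bM r) := by
  refine (ev_map ψ bM (gb ψ s) r fun g hg => ?_).symm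
  have h4 : g / 2 ≠ 4 := by have := h g hg; omega
  simp only [bM, gb, signed, if_neg h4]
  split <;> simp

variable {ψ : Model.M →* G} {s : G}

theorem gb_vals : gb ψ s 0 = ψ Model.tM ∧ gb ψ s 1 = (ψ Model.tM)⁻¹ ∧ gb ψ s 2 = ψ Model.vM ∧
    gb ψ s 3 = (ψ Model.vM)⁻¹ ∧ gb ψ s 4 = ψ xM ∧ gb ψ s 5 = (ψ xM)⁻¹ ∧ gb ψ s 6 = ψ cM ∧
    gb ψ s 7 = (ψ cM)⁻¹ ∧ gb ψ s 8 = s ∧ gb ψ s 9 = s⁻¹ := by
  simp [gb, signed, baseM]

theorem Tuple.rels (h : Tuple ψ s) {r : List ℕ} (hr : ev (gb ψ s) r = 1)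
    (hr' : ∀ g ∈ r, g < 10) :
    ∀ q ∈ relsAll r, ev (gb ψ s) q = 1 ∧ ∀ g ∈ q, g ≠ CosetEnum.eps := by
  obtain ⟨g0, g1, g2, g3, g4, g5, g6, g7, g8, g9⟩ := gb_vals (ψ := ψ) (s := s)
  intro q hq
  simp only [relsAll, List.mem_append, List.mem_singleton] at hq
  rcases hq with ((hq | hq) | hq) | hq
  · exact ⟨by rw [ev_model ψ s (relsC_ok q hq).2, (relsC_ok q hq).1, map_one], fun g hg =>
      (by have := (relsC_ok q hq).2 g hg; simp [CosetEnum.eps]; omega)⟩
  · refine ⟨?_, fun g hg => ?_⟩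
    · simp only [relsS, List.mem_cons, List.not_mem_nil, or_false] at hq
      have e4 := h.hM 4
      have e1 := h.hM 1
      have e2 := h.hM 2
      simp only [M0, EM_vals, Matrix.cons_val] at e4 e1 e2
      rcases hq with rfl | rfl | rfl | rfl | rfl <;>
        simp only [ev, List.map_cons, List.map_nil, List.prod_cons, List.prod_nil, g0, g1, g2, g3,
          g4, g5, g8, g9, mul_one]
      · rw [← h.s7]; simp [pow_succ, mul_assoc]
      · calc ψ xM * (s * ((ψ xM)⁻¹ * (s⁻¹ * s⁻¹))) = ψ xM * s * (ψ xM)⁻¹ * (s ^ 2)⁻¹ := by group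
          _ = 1 := by rw [h.hx, mul_inv_cancel]
      · calc s * (ψ Model.tM * (s⁻¹ * (ψ Model.vM)⁻¹))
            = s * ψ Model.tM * s⁻¹ * (ψ Model.vM)⁻¹ := by group
          _ = 1 := by rw [e4, mul_inv_cancel]
      · calc s * (ψ Model.vM * (s⁻¹ * (ψ xM * ((ψ Model.vM)⁻¹ * (ψ xM)⁻¹))))
            = s * ψ Model.vM * s⁻¹ * (ψ (xM * Model.vM * xM⁻¹))⁻¹ := by
              simp only [map_mul, map_inv]; group
          _ = 1 := by rw [e1, mul_inv_cancel]
      · calc s * (ψ xM * (ψ Model.vM * ((ψ xM)⁻¹ * (s⁻¹ * ((ψ Model.vM)⁻¹ * (ψ Model.tM)⁻¹)))))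
            = s * ψ (xM * Model.vM * xM⁻¹) * s⁻¹ * (ψ (Model.tM * Model.vM))⁻¹ := by
              simp only [map_mul, map_inv]; group
          _ = 1 := by rw [e2, mul_inv_cancel]
    · have : ∀ q ∈ relsS, ∀ g ∈ q, g < 10 := by decide +kernel
      have := this q hq g hg
      simp [CosetEnum.eps]; omega
  · subst hq; exact ⟨hr, fun g hg => by have := hr' g hg; simp [CosetEnum.eps]; omega⟩
  · refine ⟨?_, fun g hg => ?_⟩
    · simp only [relsT, List.mem_cons, List.not_mem_nil, or_false] at hq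
      rcases hq with rfl | rfl | rfl | rfl | rfl | rfl | rfl | rfl | rfl | rfl | rfl <;>
        simp [ev, g0, g1, g2, g3, g4, g5, g6, g7, g8, g9]
    · have : ∀ q ∈ relsT, ∀ g ∈ q, g < 10 := by decide +kernel
      have := this q hq g hg
      simp [CosetEnum.eps]; omega

theorem comm_rel {u v w : G} (h : Commute u v) (hw : w = u * v * u⁻¹ * v⁻¹) : w = 1 := by
  rw [hw, h.eq]; group

theorem rel_good (h : Comm ψ s 1 zGood) : ev (gb ψ s) relGood = 1 := by
  obtain ⟨g0, g1, g2, g3, g4, g5, g6, g7, g8, g9⟩ := gb_vals (ψ := ψ) (s := s)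
  refine comm_rel h ?_
  rw [← three_word]
  simp only [relGood, ev, List.map_cons, List.map_nil, List.prod_cons, List.prod_nil, bM, signed,
    baseM, zGood, g2, g3, g4, g5, g6, g7, g8, g9, map_mul, map_inv, map_one]
  simp [pow_succ, mul_assoc]

theorem rel_bad0 (h : Comm ψ s 1 zBad0) : ev (gb ψ s) relBad0 = 1 := by
  obtain ⟨g0, g1, g2, g3, g4, g5, g6, g7, g8, g9⟩ := gb_vals (ψ := ψ) (s := s)
  refine comm_rel h ?_
  rw [← three_word]
  simp only [relBad0, ev, List.map_cons, List.map_nil, List.prod_cons, List.prod_nil, bM, signed,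
    baseM, zBad0, g2, g3, g4, g5, g6, g7, g8, g9, map_mul, map_inv, map_one]
  simp [pow_succ, mul_assoc]

theorem rel_bad1 (h : Comm ψ s 3 zBad1) : ev (gb ψ s) relBad1 = 1 := by
  obtain ⟨g0, g1, g2, g3, g4, g5, g6, g7, g8, g9⟩ := gb_vals (ψ := ψ) (s := s)
  refine comm_rel h ?_
  rw [← three_word]
  simp only [relBad1, ev, List.map_cons, List.map_nil, List.prod_cons, List.prod_nil, bM, signed,
    baseM, zBad1, g2, g3, g4, g5, g6, g7, g8, g9, map_mul, map_inv, map_one]
  simp [pow_succ, mul_assoc]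

theorem rel_bad2 (h : Comm ψ s 3 zBad2) : ev (gb ψ s) relBad2 = 1 := by
  obtain ⟨g0, g1, g2, g3, g4, g5, g6, g7, g8, g9⟩ := gb_vals (ψ := ψ) (s := s)
  refine comm_rel h ?_
  rw [← three_word]
  simp only [relBad2, ev, List.map_cons, List.map_nil, List.prod_cons, List.prod_nil, bM, signed,
    baseM, zBad2, g2, g3, g4, g5, g6, g7, g8, g9, map_mul, map_inv, map_one]
  simp [pow_succ, mul_assoc]

end Cfsg.Lib.J1Unique
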