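import Cfsg.Agent.Lib.J1Unique.Facts

/-!
# Finite facts about the model used in the uniqueness proof
-/

set_option autoImplicit false
set_option maxRecDepth 100000
set_option synthInstance.maxSize 1024
set_option synthInstance.maxHeartbeats 400000

namespace Cfsg.Lib.J1Unique

open Cfsg.Lib.J1Order

/-- Exclusive or on `Fin 8`. -/
def xorF (a b : Fin 8) : Fin 8 := ⟨(a.val ^^^ b.val) % 8, Nat.mod_lt _ (by norm_num)⟩

/-- The additive map with the given images of `1`, `2`, `4`. -/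
def lin (a b c : Fin 8) : Fin 8 → Fin 8 :=
  ![0, a, b, xorF a b, c, xorF a c, xorF b c, xorF (xorF a b) c]

/-- The action of the three-cycle. -/
def XP : Fin 8 → Fin 8 := ![0, 2, 3, 1, 4, 6, 7, 5]

theorem EM_inj : ∀ a b, EM a = EM b → a = b := by decide +kernel

theorem EM_mul : ∀ a b, EM a * EM b = EM (xorF a b) := by decide +kernel

theorem EM_XP : ∀ n, xM * EM n * xM⁻¹ = EM (XP n) := by decide +kernel

theorem XP_surj : ∀ n, ∃ m, XP m = n := by decide +kernel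

theorem EM_invol : ∀ n, EM n * EM n = 1 ∧ (n = 0 ∨ EM n ≠ 1) := by decide +kernel

theorem xor_facts : ∀ a : Fin 8, xorF a a = 0 ∧ xorF a 0 = a ∧ xorF 0 a = a := by decide +kernel

theorem xM_facts : xM ^ 3 = 1 ∧ xM ≠ 1 := by decide +kernel

/-- The Sylow 2-subgroup of the model. -/
def EMsub : Subgroup Model.M where
  carrier := Set.range EM
  mul_mem' := by
    rintro _ _ ⟨a, rfl⟩ ⟨b, rfl⟩
    exact ⟨_, (EM_mul a b).symm⟩
  one_mem' := ⟨0, EM_vals.2.2.2.2.2⟩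
  inv_mem' := by
    rintro _ ⟨a, rfl⟩
    exact ⟨a, (inv_eq_of_mul_eq_one_right (EM_invol a).1).symm⟩

theorem mem_EMsub {m : Model.M} : m ∈ EMsub ↔ ∃ n, EM n = m := Iff.rfl

theorem card_EMsub : Nat.card EMsub = 8 := by
  have : Function.Bijective fun n : Fin 8 => (⟨EM n, n, rfl⟩ : EMsub) :=
    ⟨fun a b h => EM_inj a b (congrArg Subtype.val h), fun ⟨_, n, rfl⟩ => ⟨n, rfl⟩⟩
  rw [← Nat.card_congr (Equiv.ofBijective _ this), Nat.card_fin]

theorem norm_card : (Finset.univ.filter fun m : Model.M =>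
    ∀ n, ∃ n', EM n' = m * EM n * m⁻¹).card = 24 := by decide +kernel

theorem cent_EM : ∀ m : Model.M, ¬ (∀ n, m * EM n = EM n * m) ∨ ∃ n, EM n = m := by decide +kernel

/-- The automorphism of the model inverting the three-cycle. -/
def alpha : Model.M ≃* Model.M :=
  (MulEquiv.refl (Multiplicative (ZMod 2))).prodCongr (MulAut.conjNormal (Equiv.swap (1 : Fin 5) 3))

theorem alpha_facts : alpha xM = xM⁻¹ ∧ ∀ n, ∃ m, alpha (EM n) = EM m := by decide +kernel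

/-- Powers of an action of order seven commuting or semi-commuting with the three-cycle. -/
theorem act_cases : ∀ a b c : Fin 8, (∀ n, (lin a b c)^[7] n = n) → (∃ n, lin a b c n ≠ n) →
    (¬ ∀ n, lin a b c (XP n) = XP (lin a b c n)) ∧
    ((∀ n, lin a b c (lin a b c (XP n)) = XP (lin a b c n)) →
      ∃ j : Fin 7, ∀ n, (lin a b c)^[(j : ℕ)] n = M0 n) := by decide +kernel

theorem five_fix_three : ∀ m : Model.M, m ^ 5 = 1 → m * Model.wM = Model.wM * m → m = 1 := by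
  decide +kernel

theorem pick_v_aux : ∀ m : Model.M,
    (m ^ 5 = 1 ∧ m ≠ 1 ∧ EM 6 * m * (EM 6)⁻¹ = m⁻¹) →
      ∃ k : Fin 5, m ^ (k : ℕ) = zGood ∨ m ^ (k : ℕ) = zBad0 := by decide +kernel

theorem pick_v (m : Model.M) (h1 : m ^ 5 = 1) (h2 : m ≠ 1) (h3 : EM 6 * m * (EM 6)⁻¹ = m⁻¹) :
    ∃ k : Fin 5, m ^ (k : ℕ) = zGood ∨ m ^ (k : ℕ) = zBad0 := pick_v_aux m ⟨h1, h2, h3⟩

theorem pick_tv_aux : ∀ m : Model.M,
    (m ^ 5 = 1 ∧ m ≠ 1 ∧ EM 3 * m * (EM 3)⁻¹ = m⁻¹) →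
      ∃ k : Fin 5, m ^ (k : ℕ) = zBad1 ∨ m ^ (k : ℕ) = zBad2 := by decide +kernel

theorem pick_tv (m : Model.M) (h1 : m ^ 5 = 1) (h2 : m ≠ 1) (h3 : EM 3 * m * (EM 3)⁻¹ = m⁻¹) :
    ∃ k : Fin 5, m ^ (k : ℕ) = zBad1 ∨ m ^ (k : ℕ) = zBad2 := pick_tv_aux m ⟨h1, h2, h3⟩

theorem M0_orbit : ∀ n : Fin 8, n = 0 ∨ ∃ i : Fin 7, M0^[(i : ℕ)] 4 = n := by decide +kernel

theorem invol_card :
    (Finset.univ.filter fun m : Model.M => m ≠ 1 ∧ m * m = 1).card = 31 := by decide +kernel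

end Cfsg.Lib.J1Unique
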