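import Cfsg.Agent.Lib.J1Unique.Tuple
import Cfsg.Agent.Lib.J1Unique.Cert

/-!
# The commutator relation of the amalgam
-/

set_option autoImplicit false
set_option linter.style.haveILetI false
set_option linter.unusedSectionVars false

namespace Cfsg.Lib.J1Unique

open Subgroup Cfsg Cfsg.Lib.J1Order

theorem conj_pow_eq_or {G : Type*} [Group G] {u y : G} (huu : u * u = 1) (hy5 : orderOf y = 5)
    {k : ℕ} (hk : u * y * u⁻¹ = y ^ k) : u * y * u⁻¹ = y ∨ u * y * u⁻¹ = y⁻¹ := by
  have h1 : y ^ (k * k) = y ^ 1 := by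
    rw [pow_mul, ← hk, conj_pow, ← hk, pow_one]
    calc u * (u * y * u⁻¹) * u⁻¹ = (u * u) * y * (u * u)⁻¹ := by group
      _ = y := by rw [huu]; simp
  have h2 := pow_inj_mod.1 h1
  rw [hy5, Nat.mul_mod] at h2
  rw [hk, ← pow_mod_orderOf, hy5]
  have : k % 5 < 5 := Nat.mod_lt _ (by norm_num)
  generalize k % 5 = r at h2 this
  interval_cases r
  all_goals first
    | (exfalso; norm_num at h2; done)
    | exact Or.inl (pow_one y)
    | exact Or.inr (eq_inv_of_mul_eq_one_left (by
        rw [← pow_succ, show (4 : ℕ) + 1 = orderOf y from hy5.symm]; exact pow_orderOf_eq_one y))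

variable {G : Type*} [Group G] [Finite G] [IsSimpleGroup G] {t : G}
  (e : Subgroup.centralizer ({t} : Set G) ≃* Model.M) (ht : IsTwoCentralInvolution t)

include ht

theorem card_cent_three :
    Nat.card (Subgroup.centralizer ({emb e Model.wM} : Set G)) = 30 := by
  obtain ⟨a, b, ha, hb, hH, -⟩ := Local.three_local ht e
  rw [← emb_wM] at hH
  have hd := card_subgroup_dvd_card (Subgroup.centralizer ({emb e Model.wM} : Set G))
  rw [hH, order_eq ht e] at hd
  rw [hH]
  rcases ha with rfl | rfl | rfl <;> rcases hb with rfl | rfl | rfl <;>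
    (try norm_num at hd) <;> (try norm_num)
  -- the case of a centralizer of order six
  set w := emb e Model.wM with hw
  set v := emb e Model.vM with hv
  haveI : Fact (Nat.Prime 3) := ⟨Nat.prime_three⟩
  have hw3 : orderOf w = 3 := (Local.wG_facts ht e).2.1
  have hcard : Nat.card (zpowers w) = 3 ^ (Nat.card G).factorization 3 := by
    rw [Nat.card_zpowers, hw3, order_eq ht e, show (175560 : ℕ) = 3 ^ 1 * 58520 by norm_num,
      factorization_eq Nat.prime_three (by norm_num)]
    norm_num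
  let P : Sylow 3 G := Sylow.ofCard _ hcard
  have hvw : v * w * v⁻¹ = w⁻¹ := by
    rw [hv, hw, ← map_inv, ← map_mul, ← map_mul, Model.vM_facts.2.2.2, map_inv]
  have hww : w ≠ w⁻¹ := by
    intro h
    have : w ^ 2 = 1 := by rw [pow_two]; nth_rw 2 [h]; exact mul_inv_cancel w
    have := orderOf_dvd_of_pow_eq_one this
    rw [hw3] at this
    norm_num at this
  set H := Subgroup.centralizer ({w} : Set G) with hHdef
  have hN : ∀ g : G, g ∈ Subgroup.normalizer ((zpowers w : Subgroup G) : Set G) ↔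
      g * w * g⁻¹ = w ∨ g * w * g⁻¹ = w⁻¹ := by
    intro g
    constructor
    · intro h
      have h1 := (Subgroup.mem_normalizer_iff.1 h w).1 (mem_zpowers w)
      obtain ⟨k, hk⟩ := (mem_powers_iff_mem_zpowers.2 h1 :)
      have hk' : g * w * g⁻¹ = w ^ (k % 3) := by rw [← hk, ← hw3, pow_mod_orderOf]
      have : k % 3 < 3 := Nat.mod_lt _ (by norm_num)
      generalize k % 3 = r at hk' this
      interval_cases r
      · rw [pow_zero, conj_eq_one_iff] at hk'
        rw [hk', orderOf_one] at hw3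
        norm_num at hw3
      · exact Or.inl (hk'.trans (pow_one w))
      · refine Or.inr (hk'.trans (eq_inv_of_mul_eq_one_left ?_))
        rw [← pow_succ, show (2 : ℕ) + 1 = orderOf w from hw3.symm, pow_orderOf_eq_one]
    · intro h
      refine Subgroup.mem_normalizer_iff.2 fun z => ?_
      have hmap : (zpowers w).map (MulAut.conj g).toMonoidHom = zpowers w := by
        rw [MonoidHom.map_zpowers]
        show zpowers (g * w * g⁻¹) = zpowers w
        rcases h with h | h <;> rw [h]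
        exact zpowers_inv
      constructor
      · intro hz
        rw [← hmap]
        exact ⟨z, hz, rfl⟩
      · intro hz
        rw [← hmap] at hz
        obtain ⟨z', hz', hzz⟩ := hz
        rwa [← (MulAut.conj g).injective (hzz : MulAut.conj g z' = MulAut.conj g z)]
  have hNcard : Nat.card (Subgroup.normalizer ((zpowers w : Subgroup G) : Set G)) = 2 * 6 := by
    rw [← show Nat.card Bool = 2 by simp, show 6 = Nat.card H from hH.symm, ← Nat.card_prod]
    let F : Bool × H → Subgroup.normalizer ((zpowers w : Subgroup G) : Set G) := fun p =>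
      ⟨(if p.1 then v else 1) * p.2.1, (hN _).2 (by
        have hc : (p.2.1 : G) * w * (p.2.1 : G)⁻¹ = w := by
          rw [mem_centralizer_singleton_iff.1 p.2.2, mul_inv_cancel_right]
        rcases p.1 with _ | _
        · left; simpa using hc
        · right
          calc (if true = true then v else 1) * p.2.1 * w * ((if true = true then v else 1) * p.2.1)⁻¹
              = v * (p.2.1 * w * (p.2.1 : G)⁻¹) * v⁻¹ := by simp; group
            _ = w⁻¹ := by rw [hc, hvw])⟩
    have hvH : v ∉ H := fun h => hww (by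
      rw [← hvw, mem_centralizer_singleton_iff.1 h, mul_inv_cancel_right])
    refine (Nat.card_congr (Equiv.ofBijective F ⟨?_, ?_⟩)).symm
    · rintro ⟨i, x⟩ ⟨j, y⟩ h
      have h' := congrArg Subtype.val h
      simp only [F] at h'
      cases i <;> cases j <;> simp at h'
      · exact Prod.ext rfl h'
      · exact absurd (show v ∈ H from by
          rw [show v = x * (y : G)⁻¹ by rw [h']; group]; exact mul_mem x.2 (inv_mem y.2)) hvH
      · exact absurd (show v ∈ H from by
          rw [show v = y * (x : G)⁻¹ by rw [← h']; group]; exact mul_mem y.2 (inv_mem x.2)) hvH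
      · exact Prod.ext rfl h'
    · rintro ⟨g, hg⟩
      rcases (hN g).1 hg with h | h
      · exact ⟨(false, ⟨g, mem_centralizer_singleton_iff.2 (mul_inv_eq_iff_eq_mul.1 h)⟩),
          Subtype.ext (by simp [F])⟩
      · refine ⟨(true, ⟨v⁻¹ * g, mem_centralizer_singleton_iff.2 ?_⟩), Subtype.ext (by simp [F])⟩
        calc v⁻¹ * g * w = v⁻¹ * (g * w * g⁻¹) * g := by group
          _ = v⁻¹ * (v * w * v⁻¹) * g := by rw [h, hvw]
          _ = w * (v⁻¹ * g) := by group
  have h1 : Nat.card (Sylow 3 G) % 3 = 1 := card_sylow_modEq_one 3 G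
  have h2 := (Subgroup.normalizer ((zpowers w : Subgroup G) : Set G)).card_mul_index
  have h3 : Nat.card (Sylow 3 G) = (Subgroup.normalizer ((zpowers w : Subgroup G) : Set G)).index :=
    P.card_eq_index_normalizer
  rw [hNcard, order_eq ht e, ← h3] at h2
  omega

theorem exists_five : ∃ y : G, y ^ 5 = 1 ∧ y ≠ 1 ∧ Commute y (emb e Model.wM) ∧
    t * y * t⁻¹ = y⁻¹ ∧ (Commute y (emb e Model.vM) ∨ Commute y (emb e (Model.tM * Model.vM))) := by
  haveI : Fact (Nat.Prime 5) := ⟨Nat.prime_five⟩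
  set w := emb e Model.wM with hw
  set H := Subgroup.centralizer ({w} : Set G) with hHdef
  have hH : Nat.card H = 30 := card_cent_three e ht
  have hwH : w ∈ H := mem_centralizer_singleton_iff.2 rfl
  obtain ⟨P⟩ : Nonempty (Sylow 5 H) := inferInstance
  have hP5 : ∀ Q : Sylow 5 H, Nat.card (Q : Subgroup H) = 5 := fun Q => by
    rw [Q.card_eq_multiplicity, hH, show (30 : ℕ) = 5 ^ 1 * 6 by norm_num,
      factorization_eq Nat.prime_five (by norm_num)]
    norm_num
  have hone : Nat.card (Sylow 5 H) = 1 := by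
    set N := Subgroup.normalizer ((P : Subgroup H) : Set H) with hN
    have h1 : 5 ∣ Nat.card N := by
      rw [← hP5 P]; exact card_dvd_of_le Subgroup.le_normalizer
    have hwN : (⟨w, hwH⟩ : H) ∈ N := by
      refine Subgroup.mem_normalizer_iff.2 fun z => ?_
      have : (⟨w, hwH⟩ : H) * z * (⟨w, hwH⟩ : H)⁻¹ = z := Subtype.ext (by
        show w * z.1 * w⁻¹ = z.1
        rw [← mem_centralizer_singleton_iff.1 z.2, mul_inv_cancel_right])
      rw [this]
    have h3 : 3 ∣ Nat.card N := by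
      have h := orderOf_dvd_natCard (⟨⟨w, hwH⟩, hwN⟩ : N)
      rwa [Subgroup.orderOf_mk, Subgroup.orderOf_mk, show orderOf w = 3 from (Local.wG_facts ht e).2.1] at h
    have h15 : 15 ∣ Nat.card N := Nat.Coprime.mul_dvd_of_dvd_of_dvd (by norm_num : Nat.Coprime 5 3) h1 h3
    have h2 := N.card_mul_index
    rw [hH, ← show Nat.card (Sylow 5 H) = N.index from P.card_eq_index_normalizer] at h2
    have hm : Nat.card (Sylow 5 H) % 5 = 1 := card_sylow_modEq_one 5 H
    obtain ⟨c, hc⟩ := h15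
    rw [hc, mul_assoc] at h2
    have h4 : c * Nat.card (Sylow 5 H) = 2 := by omega
    have h5 : Nat.card (Sylow 5 H) ≤ 2 := Nat.le_of_dvd (by norm_num) (h4 ▸ dvd_mul_left _ _)
    omega
  haveI : Subsingleton (Sylow 5 H) := (Nat.card_eq_one_iff_unique.1 hone).1
  obtain ⟨y₀, hy₀⟩ := exists_prime_orderOf_dvd_card' (G := H) 5 (by rw [hH]; norm_num)
  have hall : ∀ z : G, z ∈ H → orderOf z = 5 → ∃ k : ℕ, z = (y₀ : G) ^ k := by
    intro z hz hz5
    have hmem : ∀ q : H, orderOf q = 5 → q ∈ (P : Subgroup H) := by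
      intro q hq
      obtain ⟨Q, hQ⟩ := (IsPGroup.of_card (n := 1) (by rw [Nat.card_zpowers, hq, pow_one]) :
        IsPGroup 5 (zpowers q)).exists_le_sylow
      rw [Subsingleton.elim P Q]
      exact hQ (mem_zpowers q)
    have hz' := hmem ⟨z, hz⟩ (by rw [Subgroup.orderOf_mk, hz5])
    have hy' := hmem y₀ hy₀
    have hy'1 : (⟨y₀, hy'⟩ : (P : Subgroup H)) ≠ 1 := fun h => by
      rw [show y₀ = 1 from congrArg Subtype.val h, orderOf_one] at hy₀
      norm_num at hy₀
    obtain ⟨k, hk⟩ := (mem_powers_iff_mem_zpowers.2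
      (mem_zpowers_of_prime_card (p := 5) (hP5 P) hy'1 (g' := ⟨⟨z, hz⟩, hz'⟩)) :)
    exact ⟨k, by simpa using (congrArg (fun q : (P : Subgroup H) => ((q : H) : G)) hk).symm⟩
  set y : G := (y₀ : G) with hy
  have hy5 : orderOf y = 5 := by rw [hy, Subgroup.orderOf_coe, hy₀]
  have hyw : Commute y w := mem_centralizer_singleton_iff.1 y₀.2
  have hconj : ∀ u : G, u * u = 1 → (u * w * u⁻¹ = w ∨ u * w * u⁻¹ = w⁻¹) →
      u * y * u⁻¹ = y ∨ u * y * u⁻¹ = y⁻¹ := by
    intro u huu hu
    have hmemH : u * y * u⁻¹ ∈ H := by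
      refine mem_centralizer_singleton_iff.2 ?_
      have h0 : Commute (u * y * u⁻¹) (u * w * u⁻¹) := hyw.map (MulAut.conj u).toMonoidHom
      rcases hu with h | h <;> rw [h] at h0
      · exact h0
      · exact Commute.inv_right_iff.1 h0
    obtain ⟨k, hk⟩ := hall _ hmemH (by rw [Cfsg.Lib.Invol.orderOf_conj_eq, hy5])
    exact conj_pow_eq_or huu hy5 hk
  have hy5' : y ^ 5 = 1 := hy5 ▸ pow_orderOf_eq_one y
  have hy1 : y ≠ 1 := fun h => by rw [h, orderOf_one] at hy5; norm_num at hy5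
  have hwt : t * w * t⁻¹ = w := by
    rw [hw, ← emb_comm, mul_inv_cancel_right]
  have htinv : t * y * t⁻¹ = y⁻¹ := by
    refine (hconj t (Local.t_mul ht) (Or.inl hwt)).resolve_left fun h => hy1 ?_
    obtain ⟨m, hm⟩ := exists_emb e (x := y) (mul_inv_eq_iff_eq_mul.1 h).symm
    rw [← hm, five_fix_three m (emb_inj e (by rw [map_pow, hm, hy5', map_one]))
      (emb_inj e (by rw [map_mul, map_mul, hm]; exact hyw)), map_one]
  refine ⟨y, hy5', hy1, hyw, htinv, ?_⟩
  have hvv : emb e Model.vM * emb e Model.vM = 1 := by rw [← map_mul, Model.vM_facts.1, map_one]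
  have hvw : emb e Model.vM * w * (emb e Model.vM)⁻¹ = w⁻¹ := by
    rw [hw, ← map_inv, ← map_mul, ← map_mul, Model.vM_facts.2.2.2, map_inv]
  rcases hconj _ hvv (Or.inr hvw) with h | h
  · exact Or.inl (mul_inv_eq_iff_eq_mul.1 h).symm
  · refine Or.inr (Commute.symm (mul_inv_eq_iff_eq_mul.1 ?_))
    rw [map_mul, emb_tM e ht]
    calc t * emb e Model.vM * y * (t * emb e Model.vM)⁻¹
        = t * (emb e Model.vM * y * (emb e Model.vM)⁻¹) * t⁻¹ := by group
      _ = (t * y * t⁻¹)⁻¹ := by rw [h]; group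
      _ = y := by rw [htinv, inv_inv]

theorem conj_back {s : G} (hs : Tuple (emb e) s) {i : ℕ} {r n : Fin 8}
    (hr : M0^[i] r = 4) (hn : M0^[i] 4 = n) {y : G} (hy5 : y ^ 5 = 1) (hy1 : y ≠ 1)
    (hty : t * y * t⁻¹ = y⁻¹) (hyn : Commute y (emb e (EM n))) :
    ∃ m : Model.M, emb e m = (s ^ i)⁻¹ * y * s ^ i ∧ m ^ 5 = 1 ∧ m ≠ 1 ∧
      EM r * m * (EM r)⁻¹ = m⁻¹ := by
  have hiter := conj_iterate (a := fun n => emb e (EM n)) (f := M0) hs.hM i
  set u := s ^ i
  have ht4 : emb e (EM 4) = t := by rw [EM_vals.1, emb_tM e ht]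
  have h4 : u * t * u⁻¹ = emb e (EM n) :=
    (congrArg (fun z => u * z * u⁻¹) ht4.symm).trans ((hiter 4).trans (by rw [hn]))
  obtain ⟨m, hm⟩ := exists_emb e (x := u⁻¹ * y * u) (by
    rw [show t = u⁻¹ * emb e (EM n) * u by rw [← h4]; group]
    calc u⁻¹ * y * u * (u⁻¹ * emb e (EM n) * u) = u⁻¹ * (y * emb e (EM n)) * u := by group
      _ = u⁻¹ * (emb e (EM n) * y) * u := by rw [hyn.eq]
      _ = _ := by group)
  have hur : emb e (EM r) = u⁻¹ * t * u := by
    have h5 := hiter r
    rw [hr, ht4] at h5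
    calc emb e (EM r) = u⁻¹ * (u * emb e (EM r) * u⁻¹) * u := by group
      _ = u⁻¹ * t * u := by rw [h5]
  refine ⟨m, hm, emb_inj e ?_, fun h => hy1 ?_, emb_inj e ?_⟩
  · rw [map_pow, hm, map_one, show u⁻¹ * y * u = u⁻¹ * y * u⁻¹⁻¹ by group, conj_pow, hy5]
    group
  · rw [h, map_one] at hm
    calc y = u * (u⁻¹ * y * u) * u⁻¹ := by group
      _ = 1 := by rw [← hm]; group
  · rw [map_mul, map_mul, map_inv, map_inv, hm, hur]
    calc u⁻¹ * t * u * (u⁻¹ * y * u) * (u⁻¹ * t * u)⁻¹ = u⁻¹ * (t * y * t⁻¹) * u := by group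
      _ = _ := by rw [hty]; group

theorem comm_of_pick {s : G} {i : ℕ} {y : G} {m : Model.M}
    (hm : emb e m = (s ^ i)⁻¹ * y * s ^ i) (hyw : Commute y (emb e Model.wM)) (k : ℕ) :
    Comm (emb e) s i (m ^ k) := by
  unfold Comm
  rw [map_pow, hm]
  have : s ^ i * ((s ^ i)⁻¹ * y * s ^ i) ^ k * (s ^ i)⁻¹ = y ^ k := by
    rw [← conj_pow]; congr 1; group
  rw [this]
  exact hyw.pow_left k



include e in
theorem exists_good :
    ∃ (e' : Subgroup.centralizer ({t} : Set G) ≃* Model.M) (s : G),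
      Tuple (emb e') s ∧ Comm (emb e') s 1 zGood := by
  obtain ⟨e', s, hs⟩ := exists_tuple e ht
  refine ⟨e', s, hs, ?_⟩
  obtain ⟨y, hy5, hy1, hyw, hty, hcases⟩ := exists_five e' ht
  rcases hcases with h | h
  · rw [← EM_vals.2.2.1] at h
    obtain ⟨m, hm, hm5, hm1, hmr⟩ := conj_back e' ht hs (i := 1) (r := 6) (n := 1) rfl rfl hy5 hy1 hty h
    obtain ⟨k, hk | hk⟩ := pick_v m hm5 hm1 hmr
    · exact hk ▸ comm_of_pick e' ht hm hyw _
    · exact (bad0_false hs (emb_inj e') (hk ▸ comm_of_pick e' ht hm hyw _)).elim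
  · rw [← EM_vals.2.2.2.2.1] at h
    obtain ⟨m, hm, hm5, hm1, hmr⟩ := conj_back e' ht hs (i := 3) (r := 3) (n := 5) rfl rfl hy5 hy1 hty h
    obtain ⟨k, hk | hk⟩ := pick_tv m hm5 hm1 hmr
    · exact (bad1_false hs (emb_inj e') (hk ▸ comm_of_pick e' ht hm hyw _)).elim
    · exact (bad2_false hs (emb_inj e') (hk ▸ comm_of_pick e' ht hm hyw _)).elim

end Cfsg.Lib.J1Unique
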