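import Cfsg.Agent.Lib.J1Order.Main
import Cfsg.Agent.Lib.J1Unique.ModelFacts

/-!
# The amalgam inside a simple group with this involution centralizer
-/

set_option autoImplicit false
set_option linter.style.haveILetI false
set_option linter.unusedSectionVars false

namespace Cfsg.Lib.J1Unique

open Subgroup Cfsg Cfsg.Lib.J1Order

theorem factorization_eq {p k m : ℕ} (hp : p.Prime) (hm : ¬ p ∣ m) :
    (p ^ k * m).factorization p = k := by
  have hm0 : m ≠ 0 := fun h => hm (h ▸ dvd_zero p)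
  rw [Nat.factorization_mul (pow_ne_zero _ hp.ne_zero) hm0, Finsupp.add_apply, hp.factorization_pow,
    Finsupp.single_eq_same, Nat.factorization_eq_zero_of_not_dvd hm, add_zero]

theorem conj_iterate {G : Type*} [Group G] {g : G} {a : Fin 8 → G} {f : Fin 8 → Fin 8}
    (h : ∀ n, g * a n * g⁻¹ = a (f n)) :
    ∀ (k : ℕ) n, g ^ k * a n * (g ^ k)⁻¹ = a (f^[k] n)
  | 0, n => by simp
  | k + 1, n => by
    rw [Function.iterate_succ_apply', ← h, ← conj_iterate h k n, pow_succ']
    group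

theorem eq_lin (f : Fin 8 → Fin 8) (h : ∀ a b, f (xorF a b) = xorF (f a) (f b)) :
    f = lin (f 1) (f 2) (f 4) := by
  have h0 : f 0 = 0 := by
    have := h 0 0
    rwa [(xor_facts 0).1, (xor_facts (f 0)).1] at this
  have h3 : f 3 = xorF (f 1) (f 2) := (h 1 2).symm ▸ rfl
  have h5 : f 5 = xorF (f 1) (f 4) := (h 1 4).symm ▸ rfl
  have h6 : f 6 = xorF (f 2) (f 4) := (h 2 4).symm ▸ rfl
  have h7 : f 7 = xorF (xorF (f 1) (f 2)) (f 4) := by
    rw [← h, ← h]; rfl
  funext n
  fin_cases n <;> simp [lin, h0, h3, h5, h6, h7]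

variable {G : Type*} [Group G] {t : G}

/-- The embedding of the model given by an identification of the centralizer. -/
noncomputable def emb (e : Subgroup.centralizer ({t} : Set G) ≃* Model.M) : Model.M →* G :=
  (Subgroup.centralizer ({t} : Set G)).subtype.comp e.symm.toMonoidHom

variable (e : Subgroup.centralizer ({t} : Set G) ≃* Model.M)

theorem emb_inj : Function.Injective (emb e) := fun _ _ h => e.symm.injective (Subtype.ext h)

theorem emb_mem (m : Model.M) : emb e m ∈ Subgroup.centralizer ({t} : Set G) := (e.symm m).2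

theorem emb_comm (m : Model.M) : emb e m * t = t * emb e m :=
  mem_centralizer_singleton_iff.1 (emb_mem e m)

theorem exists_emb {x : G} (hx : x * t = t * x) : ∃ m, emb e m = x :=
  ⟨e ⟨x, mem_centralizer_singleton_iff.2 hx⟩, by simp [emb]⟩

theorem emb_wM : emb e Model.wM = Local.wG e := rfl

variable [Finite G] [IsSimpleGroup G] (ht : IsTwoCentralInvolution t)

include ht

theorem emb_tM : emb e Model.tM = t := by
  have h : e.symm Model.tM = ⟨t, Local.t_mem ht⟩ := by
    rw [MulEquiv.symm_apply_eq, Local.e_t ht e]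
  show ((e.symm Model.tM : Subgroup.centralizer ({t} : Set G)) : G) = t
  rw [h]

theorem exists_conj_EM {n : Fin 8} (hn : n ≠ 0) :
    ∃ g ∈ Subgroup.normalizer ((EMsub.map (emb e) : Subgroup G) : Set G),
      g * t * g⁻¹ = emb e (EM n) := by
  haveI : Fact (Nat.Prime 2) := ⟨Nat.prime_two⟩
  have hcard : Nat.card (EMsub.map (emb e)) = 2 ^ (Nat.card G).factorization 2 := by
    rw [← Nat.card_congr (EMsub.equivMapOfInjective _ (emb_inj e)).toEquiv, card_EMsub,
      order_eq ht e, show (175560 : ℕ) = 2 ^ 3 * 21945 by norm_num,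
      factorization_eq Nat.prime_two (by norm_num)]
    norm_num
  let P : Sylow 2 G := Sylow.ofCard _ hcard
  have hP : (P : Subgroup G) = EMsub.map (emb e) := rfl
  haveI : IsMulCommutative (P : Subgroup G) := ⟨⟨by
    rintro ⟨a, ha⟩ ⟨b, hb⟩
    obtain ⟨ma, ⟨i, rfl⟩, rfl⟩ := ha
    obtain ⟨mb, ⟨j, rfl⟩, rfl⟩ := hb
    refine Subtype.ext ?_
    show emb e (EM i) * emb e (EM j) = emb e (EM j) * emb e (EM i)
    rw [← map_mul, ← map_mul, EM_mul, EM_mul]
    congr 2
    exact Fin.ext (by simp [xorF, Nat.xor_comm])⟩⟩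
  have hord : orderOf (emb e (EM n)) = 2 := by
    refine orderOf_eq_prime (by rw [pow_two, ← map_mul, (EM_invol n).1, map_one]) ?_
    exact fun h => (EM_invol n).2.resolve_left hn ((map_eq_one_iff _ (emb_inj e)).1 h)
  obtain ⟨g, hg⟩ := isConj_iff.1 (Local.isConj_invol ht e hord)
  have h1 : t ∈ P := ⟨EM 4, ⟨4, rfl⟩, by rw [EM_vals.1, emb_tM e ht]⟩
  have h2 : (g⁻¹)⁻¹ * t * g⁻¹ ∈ P := by rw [inv_inv, hg]; exact ⟨_, ⟨n, rfl⟩, rfl⟩
  obtain ⟨k, hk, hk'⟩ := P.conj_eq_normalizer_conj_of_mem t g⁻¹ h1 h2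
  refine ⟨k⁻¹, inv_mem hk, ?_⟩
  rw [inv_inv, hg] at hk'
  rw [hk', inv_inv]

theorem card_norm :
    Nat.card (Subgroup.normalizer ((EMsub.map (emb e) : Subgroup G) : Set G)) = 168 := by
  classical
  set N := Subgroup.normalizer ((EMsub.map (emb e) : Subgroup G) : Set G) with hN
  choose c hcN hc using fun n : {n : Fin 8 // n ≠ 0} => exists_conj_EM e ht n.2
  let S := Finset.univ.filter fun m : Model.M => ∀ n, ∃ n', EM n' = m * EM n * m⁻¹
  have hS : ∀ {m}, m ∈ S ↔ emb e m ∈ N := by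
    intro m
    simp only [S, Finset.mem_filter, Finset.mem_univ, true_and]
    constructor
    · intro h
      let f : Fin 8 → Fin 8 := fun n => (h n).choose
      have hf : ∀ n, EM (f n) = m * EM n * m⁻¹ := fun n => (h n).choose_spec
      have hsurj : Function.Surjective f := Finite.injective_iff_surjective.1 fun a b hab => by
        have := congrArg EM hab
        rw [hf, hf] at this
        exact EM_inj a b (by simpa using this)
      refine Subgroup.mem_normalizer_iff.2 fun z => ⟨?_, ?_⟩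
      · rintro ⟨_, ⟨n, rfl⟩, rfl⟩
        exact ⟨_, ⟨f n, rfl⟩, by rw [hf]; simp⟩
      · rintro ⟨_, ⟨n, rfl⟩, hz⟩
        obtain ⟨n', rfl⟩ := hsurj n
        refine ⟨_, ⟨n', rfl⟩, ?_⟩
        rw [hf, map_mul, map_mul, map_inv] at hz
        simpa using hz
    · intro h n
      obtain ⟨_, ⟨n', rfl⟩, hn'⟩ := (Subgroup.mem_normalizer_iff.1 h _).1 ⟨_, ⟨n, rfl⟩, rfl⟩
      exact ⟨n', emb_inj e (by rw [hn']; simp)⟩
  let F : {n : Fin 8 // n ≠ 0} × S → N := fun p =>
    ⟨c p.1 * emb e p.2.1, N.mul_mem (hcN p.1) (hS.1 p.2.2)⟩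
  have htc : ∀ p, (F p : G) * t * (F p : G)⁻¹ = emb e (EM p.1.1) := by
    intro p
    calc c p.1 * emb e p.2.1 * t * (c p.1 * emb e p.2.1)⁻¹
        = c p.1 * (emb e p.2.1 * t * (emb e p.2.1)⁻¹) * (c p.1)⁻¹ := by group
      _ = emb e (EM p.1.1) := by rw [emb_comm, mul_inv_cancel_right, hc]
  have hbij : Function.Bijective F := by
    constructor
    · rintro ⟨i, m⟩ ⟨j, m'⟩ h
      obtain rfl : i = j := Subtype.ext (EM_inj _ _ (emb_inj e (by rw [← htc (i, m), h, htc])))
      refine Prod.ext rfl (Subtype.ext (emb_inj e ?_))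
      simpa [F] using congrArg Subtype.val h
    · rintro ⟨g, hg⟩
      have htE : t ∈ EMsub.map (emb e) := ⟨EM 4, ⟨4, rfl⟩, by rw [EM_vals.1, emb_tM e ht]⟩
      obtain ⟨_, ⟨n, rfl⟩, hn⟩ := (Subgroup.mem_normalizer_iff.1 hg t).1 htE
      have hn0 : n ≠ 0 := by
        rintro rfl
        rw [EM_vals.2.2.2.2.2, map_one] at hn
        exact Local.t_ne ht (conj_eq_one_iff.1 hn.symm)
      obtain ⟨m, hm⟩ := exists_emb e (x := (c ⟨n, hn0⟩)⁻¹ * g) (by
        have h1 : g * t * g⁻¹ = c ⟨n, hn0⟩ * t * (c ⟨n, hn0⟩)⁻¹ := by rw [hc, hn]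
        calc (c ⟨n, hn0⟩)⁻¹ * g * t = (c ⟨n, hn0⟩)⁻¹ * (g * t * g⁻¹) * g := by group
          _ = t * ((c ⟨n, hn0⟩)⁻¹ * g) := by rw [h1]; group)
      refine ⟨(⟨n, hn0⟩, ⟨m, hS.2 ?_⟩), Subtype.ext ?_⟩
      · rw [hm]; exact mul_mem (inv_mem (hcN _)) hg
      · simp [F, hm]
  rw [← Nat.card_congr (Equiv.ofBijective F hbij), Nat.card_prod, Nat.card_eq_fintype_card,
    Nat.card_eq_finsetCard, norm_card]
  decide

/-- An element of order seven of the normalizer, normalized by the three-cycle. -/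
theorem exists_seven : ∃ (s : G) (k : ℕ), s ∈
      Subgroup.normalizer ((EMsub.map (emb e) : Subgroup G) : Set G) ∧ s ^ 7 = 1 ∧ s ≠ 1 ∧
    emb e xM * s * (emb e xM)⁻¹ = s ^ k := by
  haveI : Fact (Nat.Prime 7) := ⟨by norm_num⟩
  haveI : Fact (Nat.Prime 3) := ⟨by norm_num⟩
  set N := Subgroup.normalizer ((EMsub.map (emb e) : Subgroup G) : Set G) with hN
  have hN168 : Nat.card N = 7 ^ 1 * 24 := card_norm e ht
  have hxN : emb e xM ∈ N := by
    refine Subgroup.mem_normalizer_iff.2 fun z => ⟨?_, ?_⟩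
    · rintro ⟨_, ⟨n, rfl⟩, rfl⟩
      exact ⟨_, ⟨XP n, rfl⟩, by rw [← EM_XP]; simp⟩
    · rintro ⟨_, ⟨n, rfl⟩, hz⟩
      obtain ⟨m, rfl⟩ := XP_surj n
      refine ⟨_, ⟨m, rfl⟩, ?_⟩
      rw [← EM_XP, map_mul, map_mul, map_inv] at hz
      simpa using hz
  obtain ⟨P⟩ : Nonempty (Sylow 7 N) := inferInstance
  have hP7 : ∀ Q : Sylow 7 N, Nat.card (Q : Subgroup N) = 7 := fun Q => by
    rw [Q.card_eq_multiplicity, hN168, factorization_eq (by norm_num) (by norm_num)]
    norm_num
  have hn7 : ¬ 3 ∣ Nat.card (Sylow 7 N) := by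
    have h1 := P.card_dvd_index
    have h2 : (P : Subgroup N).index = 24 := by
      have := (P : Subgroup N).card_mul_index
      rw [hP7, hN168] at this
      omega
    rw [h2] at h1
    have h3 : Nat.card (Sylow 7 N) % 7 = 1 := card_sylow_modEq_one 7 N
    have h4 : Nat.card (Sylow 7 N) ≤ 24 := Nat.le_of_dvd (by norm_num) h1
    generalize Nat.card (Sylow 7 N) = n at h1 h3 h4
    revert h1 h3
    interval_cases n <;> norm_num
  set x : N := ⟨emb e xM, hxN⟩ with hx
  have hx3 : IsPGroup 3 (zpowers x) := by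
    refine IsPGroup.of_card (n := 1) ?_
    rw [Nat.card_zpowers, pow_one]
    refine orderOf_eq_prime (Subtype.ext ?_) fun h => ?_
    · show emb e xM ^ 3 = 1
      rw [← map_pow, xM_facts.1, map_one]
    · exact xM_facts.2 ((map_eq_one_iff _ (emb_inj e)).1 (congrArg Subtype.val h))
  obtain ⟨Q, hQ⟩ := hx3.nonempty_fixed_point_of_prime_not_dvd_card (Sylow 7 N) hn7
  have hxQ : x ∈ Subgroup.normalizer ((Q : Subgroup N) : Set N) :=
    Sylow.smul_eq_iff_mem_normalizer.1 (hQ ⟨x, mem_zpowers x⟩)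
  obtain ⟨⟨s, hsQ⟩, hs⟩ : ∃ s : (Q : Subgroup N), s ≠ 1 := by
    by_contra h
    push Not at h
    have : Subsingleton (Q : Subgroup N) := ⟨fun a b => by rw [h a, h b]⟩
    have := Nat.card_of_subsingleton (1 : (Q : Subgroup N))
    rw [hP7] at this
    norm_num at this
  have hs7 : orderOf (⟨s, hsQ⟩ : (Q : Subgroup N)) = 7 := by
    have := orderOf_dvd_natCard (⟨s, hsQ⟩ : (Q : Subgroup N))
    rw [hP7] at this
    exact ((Nat.dvd_prime (by norm_num)).1 this).resolve_left (by simpa using hs)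
  obtain ⟨k, hk⟩ : ∃ k : ℕ, (⟨s, hsQ⟩ : (Q : Subgroup N)) ^ k =
      ⟨x * s * x⁻¹, (Subgroup.mem_normalizer_iff.1 hxQ s).1 hsQ⟩ := by
    have := mem_zpowers_of_prime_card (p := 7) (hP7 Q) hs
      (g' := ⟨x * s * x⁻¹, (Subgroup.mem_normalizer_iff.1 hxQ s).1 hsQ⟩)
    exact Submonoid.mem_powers_iff _ _ |>.1 (mem_powers_iff_mem_zpowers.2 this)
  refine ⟨s, k, s.2, ?_, fun h => hs (Subtype.ext (Subtype.ext h)), ?_⟩
  · have := congrArg (fun z : (Q : Subgroup N) => ((z : N) : G)) (hs7 ▸ pow_orderOf_eq_one (⟨s, hsQ⟩ : (Q : Subgroup N)))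
    simpa using this
  · have := congrArg (fun z : (Q : Subgroup N) => ((z : N) : G)) hk
    simpa [hx] using this.symm

include e in
theorem exists_tuple : ∃ (e' : Subgroup.centralizer ({t} : Set G) ≃* Model.M) (s : G),
    Tuple (emb e') s := by
  obtain ⟨s, k, hsN, hs7, hs1, hk⟩ := exists_seven e ht
  have hf : ∀ n, ∃ n', emb e (EM n') = s * emb e (EM n) * s⁻¹ := fun n => by
    obtain ⟨_, ⟨n', rfl⟩, h⟩ := (Subgroup.mem_normalizer_iff.1 hsN _).1 ⟨_, ⟨n, rfl⟩, rfl⟩
    exact ⟨n', h⟩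
  choose f hf using hf
  have hiter := conj_iterate (a := fun n => emb e (EM n)) (f := f) fun n => (hf n).symm
  have hadd : ∀ a b, f (xorF a b) = xorF (f a) (f b) := fun a b => EM_inj _ _ (emb_inj e (by
    rw [hf, ← EM_mul, ← EM_mul, map_mul, map_mul, hf, hf]; group))
  have hlin := eq_lin f hadd
  have h7 : ∀ n, f^[7] n = n := fun n => EM_inj _ _ (emb_inj e (by
    have := hiter 7 n
    rw [hs7, one_mul, inv_one, mul_one] at this
    exact this.symm))
  have hne : ∃ n, f n ≠ n := by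
    by_contra h
    push Not at h
    have hst : s * t = t * s := by
      have h4 := hf 4
      rw [h 4, EM_vals.1, emb_tM e ht] at h4
      exact (eq_mul_inv_iff_mul_eq.1 h4).symm
    obtain ⟨m, hm⟩ := exists_emb e hst
    rcases cent_EM m with h' | ⟨n, hn⟩
    · refine h' fun n => emb_inj e ?_
      rw [map_mul, map_mul, hm]
      have := hf n
      rw [h n] at this
      exact (eq_mul_inv_iff_mul_eq.1 this).symm
    · have h2 : s * s = 1 := by rw [← hm, ← hn, ← map_mul, (EM_invol n).1, map_one]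
      refine hs1 ?_
      calc s = s ^ 7 * ((s * s) ^ 3)⁻¹ := by rw [← pow_two, ← pow_mul]; group
        _ = 1 := by rw [hs7, h2]; simp
  have hcomm : ∀ n, f^[k] (XP n) = XP (f n) := fun n => EM_inj _ _ (emb_inj e (by
    have := hiter k (XP n)
    rw [← hk, ← EM_XP, map_mul, map_mul, map_inv] at this
    rw [← this, ← EM_XP, map_mul, map_mul, map_inv, hf]
    group))
  -- the exponent
  have hk3 : s ^ (k ^ 3) = s := by
    set x := emb e xM with hx
    have step : ∀ j : ℕ, x * s ^ j * x⁻¹ = s ^ (j * k) := fun j => by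
      rw [← conj_pow, hk, ← pow_mul, mul_comm]
    have hx3 : x ^ 3 = 1 := by rw [hx, ← map_pow, xM_facts.1, map_one]
    calc s ^ (k ^ 3) = x * (x * (x * s * x⁻¹) * x⁻¹) * x⁻¹ := by
          rw [hk, step, step]; ring_nf
      _ = x ^ 3 * s * (x ^ 3)⁻¹ := by rw [pow_succ, pow_two]; group
      _ = s := by rw [hx3]; simp
  have hord : orderOf s = 7 := by
    haveI : Fact (Nat.Prime 7) := ⟨by norm_num⟩
    exact orderOf_eq_prime hs7 hs1
  have hk37 : k ^ 3 % 7 = 1 := by
    have h1 := pow_inj_mod.1 (hk3.trans (pow_one s).symm)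
    rw [hord] at h1
    omega
  have hkmod : k % 7 = 1 ∨ k % 7 = 2 ∨ k % 7 = 4 := by
    rw [Nat.pow_mod] at hk37
    have : k % 7 < 7 := Nat.mod_lt _ (by norm_num)
    generalize k % 7 = r at hk37 this
    interval_cases r <;> first | omega | (norm_num at hk37)
  have hkpow : s ^ k = s ^ (k % 7) := by rw [← hord, pow_mod_orderOf]
  -- normalising to the square
  have main : ∀ (e' : Subgroup.centralizer ({t} : Set G) ≃* Model.M) (f' : Fin 8 → Fin 8),
      (∀ n, s * emb e' (EM n) * s⁻¹ = emb e' (EM (f' n))) → (∃ n, f' n ≠ n) →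
      emb e' xM * s * (emb e' xM)⁻¹ = s ^ 2 → ∃ s', Tuple (emb e') s' := by
    intro e' f' hf' hne' hk'
    have hi' := conj_iterate (a := fun n => emb e' (EM n)) (f := f') hf'
    have hlin' : f' = lin (f' 1) (f' 2) (f' 4) := eq_lin f' fun a b =>
      EM_inj _ _ (emb_inj e' (by
        rw [← hf', ← EM_mul, ← EM_mul, map_mul, map_mul, ← hf', ← hf']; group))
    have h7' : ∀ n, f'^[7] n = n := fun n => EM_inj _ _ (emb_inj e' (by
      have := hi' 7 n
      rw [hs7, one_mul, inv_one, mul_one] at this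
      exact this.symm))
    have h2' : ∀ n, f' (f' (XP n)) = XP (f' n) := fun n => EM_inj _ _ (emb_inj e' (by
      rw [← hf', ← hf', ← EM_XP, ← EM_XP, map_mul, map_mul, map_inv, map_mul, map_mul, map_inv,
        ← hf']
      calc s * (s * (emb e' xM * emb e' (EM n) * (emb e' xM)⁻¹) * s⁻¹) * s⁻¹
          = s ^ 2 * (emb e' xM * emb e' (EM n) * (emb e' xM)⁻¹) * (s ^ 2)⁻¹ := by
            rw [pow_two]; group
        _ = _ := by rw [← hk']; group))
    rw [hlin'] at h7' hne' h2'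
    obtain ⟨j, hj⟩ := (act_cases _ _ _ h7' hne').2 h2'
    rw [← hlin'] at hj
    refine ⟨s ^ (j : ℕ), ?_, ?_, fun n => ?_⟩
    · rw [← pow_mul, mul_comm, pow_mul, hs7, one_pow]
    · rw [← conj_pow, hk', ← pow_mul, mul_comm, pow_mul]
    · rw [← hj n]; exact hi' j n
  rcases hkmod with h1 | h2 | h4
  · exfalso
    rw [hlin] at h7 hne
    refine (act_cases _ _ _ h7 hne).1 fun n => ?_
    rw [← hlin]
    refine EM_inj _ _ (emb_inj e ?_)
    rw [hkpow, h1, pow_one] at hk
    rw [← EM_XP, hf, map_mul, map_mul, map_inv, ← EM_XP, map_mul, map_mul, map_inv, hf]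
    calc s * (emb e xM * emb e (EM n) * (emb e xM)⁻¹) * s⁻¹
        = (emb e xM * s * (emb e xM)⁻¹) * (emb e xM * emb e (EM n) * (emb e xM)⁻¹) *
            (emb e xM * s * (emb e xM)⁻¹)⁻¹ := by rw [hk]
      _ = _ := by group
  · rw [hkpow, h2] at hk
    obtain ⟨s', hs'⟩ := main e f (fun n => (hf n).symm) hne hk
    exact ⟨e, s', hs'⟩
  · rw [hkpow, h4] at hk
    have hemb : ∀ m, emb (e.trans alpha.symm) m = emb e (alpha m) := fun m => rfl
    obtain ⟨n₀, hn₀⟩ := hne
    choose A hA using alpha_facts.2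
    have hAi : Function.Injective A := fun a b h => EM_inj a b
      (alpha.injective (by rw [hA, hA, h]))
    have hAs := Finite.injective_iff_surjective.1 hAi
    choose B hB using fun n => hAs n
    obtain ⟨s', hs'⟩ := main (e.trans alpha.symm) (fun n => B (f (A n)))
      (fun n => by rw [hemb, hemb, hA, hA, hB, hf])
      (by
        obtain ⟨m, rfl⟩ := hAs n₀
        exact ⟨m, fun h => hn₀ (by simpa [hB] using congrArg A h)⟩)
      (by
        rw [hemb, alpha_facts.1, map_inv, inv_inv]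
        have hx2 : emb e xM * s ^ 2 * (emb e xM)⁻¹ = s := by
          rw [← conj_pow, hk, ← pow_mul]
          calc s ^ (4 * 2) = s ^ 7 * s := by group
            _ = s := by rw [hs7, one_mul]
        calc (emb e xM)⁻¹ * s * emb e xM
            = (emb e xM)⁻¹ * (emb e xM * s ^ 2 * (emb e xM)⁻¹) * emb e xM := by rw [hx2]
          _ = s ^ 2 := by group)
    exact ⟨_, s', hs'⟩

end Cfsg.Lib.J1Unique
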